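import Mathlib
import Groth.Agent.H25Par.FiniteSupport
import Groth.Agent.H25Euler.Additive
import Groth.Prelude.Def_CurvBase

/-!
# The Euler characteristic of a coherent module supported at finitely many closed points

The global sections part is copied from `H25Par.StalkProd` to keep the import closure small.
-/

set_option autoImplicit false
set_option linter.style.haveILetI false

universe u

open CategoryTheory CategoryTheory.Limits AlgebraicGeometry TopologicalSpace Opposite IsLocalRing

namespace Groth.Agent.H06NormCurve

open H25Par (section_eq_zero)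

variable {k : Type u} [Field k] {X : Scheme.{u}} [X.Over (Spec (CommRingCat.of k))]

/-- The constants in a local ring. -/
noncomputable def constStalk (y : X) : k →+* X.presheaf.stalk y :=
  (X.presheaf.germ (⊤ : X.Opens) y trivial).hom.comp (H10Coh.globA (A := k) (X := X))

/-- A stalk as a vector space over the constants. -/
def Stk (_k : Type u) (M : X.Modules) (y : X) : Type u := M.presheaf.stalk y

noncomputable instance (M : X.Modules) (y : X) : AddCommGroup (Stk k M y) :=
  inferInstanceAs (AddCommGroup (M.presheaf.stalk y))

noncomputable instance (M : X.Modules) (y : X) : Module k (Stk k M y) :=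
  Module.compHom (M.presheaf.stalk y) (constStalk (k := k) y)

/-- An `O_y`-linear equivalence of stalks is linear over the constants. -/
noncomputable def stkEquiv {M N : X.Modules} {y : X}
    (e : M.presheaf.stalk y ≃ₗ[X.presheaf.stalk y] N.presheaf.stalk y) : Stk k M y ≃ₗ[k] Stk k N y :=
  { e with map_smul' := fun a x => e.map_smul (constStalk (k := k) y a) x }

/-- The family of germs of a global class of degree zero. -/
noncomputable def germs (M : X.Modules) (S : Set X) : Coh.HH X M 0 →ₗ[k] (∀ y : S, Stk k M y.1) :=
  LinearMap.pi fun y =>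
    { toFun := fun x => M.presheaf.germ (⊤ : X.Opens) y.1 trivial
        (H10Coh.H0Equiv (H10Coh.sh M) (⊤ : X.Opens) (H10Coh.HHEquiv M 0 x))
      map_add' := fun a b => by
        rw [map_add, map_add]
        exact map_add (M.presheaf.germ (⊤ : X.Opens) y.1 trivial).hom _ _
      map_smul' := fun a x => by
        rw [H10Coh.HHEquiv_smul']
        erw [H10Coh.compMk₀_apply, H10Coh.H0Equiv_map]
        change (TopCat.Presheaf.germ M.presheaf (⊤ : X.Opens) y.1 trivial).hom
          (@HSMul.hSMul (X.ringCatSheaf.obj.obj (op ⊤)) (M.val.obj (op ⊤)) (M.val.obj (op ⊤)) _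
            (Coh.resTop X (op ⊤) (H10Coh.globA a)) _) = _
        erw [PresheafOfModules.germ_smul (M := M.val)]
        simp only [Coh.resTop, Subsingleton.elim (homOfLE (le_top (a := (⊤ : X.Opens)))) (𝟙 _)]
        erw [CategoryTheory.Functor.map_id]
        rfl }

theorem germs_bijective (M : X.Modules) {S : Set X} (hS : S.Finite) (hcl : ∀ z ∈ S, IsClosed ({z} : Set X))
    (h : ∀ y, y ∉ S → Subsingleton (M.presheaf.stalk y)) : Function.Bijective (germs (k := k) M S) := by
  classical
  let F := H10Coh.sh M
  let E := (H10Coh.HHEquiv M 0).trans (H10Coh.H0Equiv F (⊤ : X.Opens))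
  constructor
  · intro a b hab
    refine E.injective (TopCat.Presheaf.section_ext F (⊤ : X.Opens) _ _ fun y _ => ?_)
    by_cases hy : y ∈ S
    · exact congrFun hab ⟨y, hy⟩
    · exact (h y hy).elim _ _
  · intro f
    haveI : Fintype S := hS.fintype
    have key : ∀ y : S, ∃ t : F.obj.obj (op (⊤ : X.Opens)), ∀ z : S,
        M.presheaf.germ (⊤ : X.Opens) z.1 trivial t = if hz : z = y then hz ▸ (f y) else 0 := by
      intro y
      obtain ⟨V, hyV, s, hs⟩ := M.presheaf.exists_germ_eq (f y : M.presheaf.stalk y.1)
      let W : X.Opens := ⟨V ∩ (S \ {y.1})ᶜ, V.2.inter (IsClosed.isOpen_compl (s := S \ {y.1}) (self := by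
        rw [← Set.biUnion_of_singleton (S \ {y.1})]
        exact (hS.subset Set.sdiff_subset).isClosed_biUnion fun z hz => hcl z hz.1))⟩
      have hyW : y.1 ∈ W := ⟨hyV, fun hh => hh.2 rfl⟩
      let U₀ : X.Opens := ⟨({y.1} : Set X)ᶜ, (hcl y.1 y.2).isOpen_compl⟩
      let B : ULift.{u} Bool → X.Opens := fun b => if b.down then W else U₀
      let t : ∀ b, F.obj.obj (op (B b)) := fun b =>
        if hb : b.down = true then F.obj.map (homOfLE (show B b ≤ V by simp only [B, hb, if_true]; exact fun z hz => hz.1)).op s else 0
      have hcmp : TopCat.Presheaf.IsCompatible F.obj B t := by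
        intro a b
        by_cases hab : a.down = b.down
        · have : a = b := ULift.ext _ _ hab
          subst this
          rfl
        · refine (section_eq_zero F (fun z hz => h z fun hzS => ?_) _).trans
            (section_eq_zero F (fun z hz => h z fun hzS => ?_) _).symm <;>
          · obtain ⟨a⟩ := a
            obtain ⟨b⟩ := b
            cases a <;> cases b <;> simp at hab
            all_goals
              simp [B, W, U₀] at hz
              tauto
      obtain ⟨g, hg, -⟩ := TopCat.Sheaf.existsUnique_gluing (F := F) B t hcmp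
      have hcov : (⊤ : X.Opens) ≤ iSup B := fun z _ => by
        by_cases hz : z = y.1
        · exact Opens.mem_iSup.2 ⟨⟨true⟩, by subst hz; exact hyW⟩
        · exact Opens.mem_iSup.2 ⟨⟨false⟩, hz⟩
      refine ⟨F.obj.map (homOfLE hcov).op g, fun z => ?_⟩
      refine (TopCat.Presheaf.germ_res_apply M.presheaf (homOfLE hcov) z.1 trivial g).trans ?_
      split
      · next hz =>
        subst hz
        rw [← TopCat.Presheaf.germ_res_apply M.presheaf (homOfLE (le_iSup B ⟨true⟩)) z.1 hyW g]
        erw [hg ⟨true⟩]
        erw [TopCat.Presheaf.germ_res_apply]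
        exact hs
      · next hz =>
        have hz0 : z.1 ∈ B ⟨false⟩ := fun e => hz (Subtype.ext e)
        rw [← TopCat.Presheaf.germ_res_apply M.presheaf (homOfLE (le_iSup B ⟨false⟩)) z.1 hz0 g]
        erw [hg ⟨false⟩]
        exact map_zero (M.presheaf.germ (B ⟨false⟩) z.1 hz0).hom
    choose t ht using key
    refine ⟨E.symm (∑ y, t y), funext fun z => ?_⟩
    show M.presheaf.germ (⊤ : X.Opens) z.1 trivial (E (E.symm (∑ y, t y))) = _
    rw [AddEquiv.apply_symm_apply]
    refine (map_sum (M.presheaf.germ (⊤ : X.Opens) z.1 trivial).hom t Finset.univ).trans ?_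
    refine (Finset.sum_eq_single z (fun y _ hy => ?_) (fun hh => absurd (Finset.mem_univ z) hh)).trans ?_
    · exact (ht y z).trans (dif_neg (Ne.symm hy))
    · exact (ht z z).trans (dif_pos rfl)

/-- Lengths over a local algebra. -/
theorem length_eq_mul {k A : Type u} [Field k] [CommRing A] [IsLocalRing A] [Algebra k A]
    (M : Type u) [AddCommGroup M] [Module A M] [Module k M] [IsScalarTower k A M]
    (hM : Module.length A M ≠ ⊤) :
    Module.length k M = Module.length k (A ⧸ maximalIdeal A) * Module.length A M := by
  suffices key : ∀ (Q : Type u) [AddCommGroup Q] [Module A Q], IsFiniteLength A Q →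
      ∀ [Module k Q] [IsScalarTower k A Q],
        Module.length k Q = Module.length k (A ⧸ maximalIdeal A) * Module.length A Q from
    key M (Module.length_ne_top_iff.mp hM)
  intro Q _ _ hQ
  induction hQ with
  | @of_subsingleton Q _ _ _ => intro _ _; rw [Module.length_eq_zero (R := k) (M := Q), Module.length_eq_zero (R := A) (M := Q), mul_zero]
  | @of_simple_quotient Q _ _ P _ _ ih =>
    intro _ _
    rw [Module.length_eq_add_of_exact (P.subtype.restrictScalars k) (P.mkQ.restrictScalars k)
        Subtype.coe_injective P.mkQ_surjective (LinearMap.exact_subtype_mkQ P),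
      Module.length_eq_add_of_exact P.subtype P.mkQ Subtype.coe_injective P.mkQ_surjective
        (LinearMap.exact_subtype_mkQ P), ih, mul_add]
    congr 1
    obtain ⟨m, hm, ⟨e⟩⟩ := isSimpleModule_iff_quot_maximal.mp (inferInstance : IsSimpleModule A (Q ⧸ P))
    obtain rfl := IsLocalRing.eq_maximalIdeal hm
    haveI : IsSimpleModule A (A ⧸ maximalIdeal A) := IsSimpleModule.congr e.symm
    rw [e.length_eq, (e.restrictScalars k).length_eq, Module.length_eq_one_iff.mpr (inferInstance : IsSimpleModule A (A ⧸ maximalIdeal A)), mul_one]

theorem toNat_length (k V : Type u) [Field k] [AddCommGroup V] [Module k V] :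
    (Module.length k V).toNat = Module.finrank k V := by
  by_cases h : Module.length k V = ⊤
  · rw [h, ENat.toNat_top, Module.finrank_of_not_finite fun hf => ?_]
    haveI := hf
    rw [Module.length_eq_finrank] at h
    exact ENat.natCast_ne_top _ h
  · haveI : IsNoetherian k V := ((isFiniteLength_iff_isNoetherian_isArtinian.mp (Module.length_ne_top_iff.mp h))).1
    rw [Module.length_eq_finrank, ENat.toNat_natCast]

variable [IsProper (X ↘ Spec (CommRingCat.of k))]

/-- The Euler characteristic of a module with finite support. -/
theorem euler_finite_support {Q : X.Modules} (hQ : Coh.IsCoh Q) (S : Finset X)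
    (hcl : ∀ z ∈ S, IsClosed ({z} : Set X)) (h : ∀ y, y ∉ S → Subsingleton (Q.presheaf.stalk y)) :
    (∀ x ∈ S, Module.Finite k (Stk k Q x)) ∧
    Curv2.euler k X Q = ∑ x ∈ S, (Module.finrank k (Stk k Q x) : ℤ) := by
  have hb := germs_bijective (k := k) Q S.finite_toSet hcl h
  haveI : Module.Finite k (Coh.HH X Q 0) := H10Coh.finite_HH_proper k X Q hQ 0
  haveI : Module.Finite k (∀ y : (S : Set X), Stk k Q y.1) :=
    Module.Finite.equiv (LinearEquiv.ofBijective _ hb)
  haveI : ∀ y : (S : Set X), Module.Finite k (Stk k Q y.1) := fun y =>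
    Module.Finite.of_surjective (LinearMap.proj (R := k) (φ := fun y : (S : Set X) => Stk k Q y.1) y)
      (LinearMap.proj_surjective y)
  refine ⟨fun x hx => this ⟨x, hx⟩, ?_⟩
  rw [H25Euler.euler_eq_sum Q 1 fun p hp => H25Par.subsingleton_HH_of_finite_support Q S.finite_toSet hcl h hp,
    Finset.sum_range_one, pow_zero, one_mul, (LinearEquiv.ofBijective _ hb).finrank_eq,
    Module.finrank_pi_fintype, Nat.cast_sum]
  exact Finset.sum_coe_sort S (fun x => (Module.finrank k (Stk k Q x) : ℤ))

omit [IsProper (X ↘ Spec (CommRingCat.of k))] in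
attribute [local instance] Curv2.resAlgebra in
/-- The contribution of a point: degree of the residue field times length. -/
theorem finrank_stk {Q : X.Modules} {x : X} [Module.Finite k (Stk k Q x)] :
    Module.finrank k (Stk k Q x) = Module.finrank k (X.residueField x) *
      (Module.length (X.presheaf.stalk x) (Q.presheaf.stalk x)).toNat := by
  letI : Algebra k (X.presheaf.stalk x) := (constStalk (k := k) x).toAlgebra
  letI : Module k (Q.presheaf.stalk x) := inferInstanceAs (Module k (Stk k Q x))
  haveI : IsScalarTower k (X.presheaf.stalk x) (Q.presheaf.stalk x) := .of_algebraMap_smul fun _ _ => rfl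
  haveI : Module.Finite k (Q.presheaf.stalk x) := inferInstanceAs (Module.Finite k (Stk k Q x))
  have hfin : Module.length (X.presheaf.stalk x) (Q.presheaf.stalk x) ≠ ⊤ := by
    haveI : IsNoetherian (X.presheaf.stalk x) (Q.presheaf.stalk x) := isNoetherian_of_tower k inferInstance
    haveI : IsArtinian (X.presheaf.stalk x) (Q.presheaf.stalk x) := isArtinian_of_tower k inferInstance
    exact Module.length_ne_top_iff.2 (isFiniteLength_iff_isNoetherian_isArtinian.2 ⟨inferInstance, inferInstance⟩)
  let e : X.residueField x ≃ₗ[k] X.presheaf.stalk x ⧸ maximalIdeal (X.presheaf.stalk x) :=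
    { toFun := fun z => z
      invFun := fun z => z
      map_add' := fun _ _ => rfl
      map_smul' := fun c z => by
        obtain ⟨z, rfl⟩ := Ideal.Quotient.mk_surjective z
        rfl
      left_inv := fun _ => rfl
      right_inv := fun _ => rfl }
  have h1 := congrArg ENat.toNat (length_eq_mul (k := k) (Q.presheaf.stalk x) hfin)
  rw [ENat.toNat_mul, toNat_length, toNat_length, ← e.finrank_eq] at h1
  exact h1

end Groth.Agent.H06NormCurve
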