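import Mathlib
import Groth.Agent.H10Coh.AffinePush
import Groth.Agent.H10Coh.Affine
import Groth.Agent.H10Coh.FinH
import Groth.Prelude.Def_CurvBase

/-!
# The Euler characteristic of a push forward along an affine morphism

The general part is copied from `H22Alg.IntPush` to keep the import closure small.
-/

set_option autoImplicit false
set_option linter.style.haveILetI false
universe u

open CategoryTheory CategoryTheory.Limits AlgebraicGeometry Opposite TopologicalSpace
open Groth.Agent.H10Coh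

noncomputable section

namespace Groth.Agent.H06NormCurve

attribute [local instance 10000] hasSheafifyAb hasWeakSheafifyAb hasExtAb enoughInjAb
attribute [local instance] enoughInjMod

variable (k : Type u) [Field k] {W X : Scheme.{u}} [W.Over (Spec (CommRingCat.of k))]
  [X.Over (Spec (CommRingCat.of k))]

/-- Cohomology of a module without higher direct images. -/
theorem finrank_HH_push (h : W ⟶ X) (hh : h ≫ (X ↘ Spec (CommRingCat.of k)) = W ↘ Spec (CommRingCat.of k))
    (G : W.Modules) (hac : ∀ U : X.Opens, IsAffineOpen U → ∀ p, 0 < p → Subsingleton (HnM G p (h ⁻¹ᵁ U)))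
    (n : ℕ) :
    Module.finrank k (Coh.HH X ((Coh.push h).obj G) n) = Module.finrank k (Coh.HH W G n) := by
  have hepi : ∀ m, Epi ((CohTop.push h.base).map ((MRes.inj G).toF.p m)) := fun m =>
    (MRes.inj G).toF.epi_push_p h.base (affB X) (isBasis_affB X) (fun U hU j => hac U hU (j + 1) j.succ_pos) m
  let ψX : k →+* Γ(X, ⊤) := globA
  let ψW : k →+* Γ(W, ⊤) := globA
  have hψ : ψW = h.appTop.hom.comp ψX := by
    show Coh.toGlobal (W ↘ Spec (CommRingCat.of k)) = h.appTop.hom.comp (Coh.toGlobal (X ↘ Spec (CommRingCat.of k)))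
    rw [← hh]
    rfl
  let P := (Coh.push h).obj G
  letI := (actM ψX P).mod n ⊤
  letI := (actM ψW G).mod n ⊤
  let e₁ : Coh.HH X P n ≃ₗ[k] HnM P n ⊤ := { HHEquiv P n with map_smul' := HHEquiv_smul' P n }
  let e₂ : Coh.HH W G n ≃ₗ[k] HnM G n ⊤ := { HHEquiv G n with map_smul' := HHEquiv_smul' G n }
  let e' : HnM P n ⊤ ≃+ HnM G n ⊤ := (MRes.inj G).toF.pushEquiv h.base hepi n ⊤
  let e₀ : HnM P n ⊤ ≃ₗ[k] HnM G n ⊤ :=
    { e' with
      map_smul' := fun a x => by
        change e' (postH (smulSh P (ψX a)) n ⊤ x) = postH (smulSh G (ψW a)) n ⊤ (e' x)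
        rw [smulSh_push h G (ψX a), hψ]
        exact FRes.pushEquiv_natural h.base (mResSmul (MRes.inj G) (h.appTop (ψX a))) hepi hepi n ⊤ x }
  exact (e₁.trans (e₀.trans e₂.symm)).finrank_eq

theorem euler_push (h : W ⟶ X) (hh : h ≫ (X ↘ Spec (CommRingCat.of k)) = W ↘ Spec (CommRingCat.of k))
    (G : W.Modules) (hac : ∀ U : X.Opens, IsAffineOpen U → ∀ p, 0 < p → Subsingleton (HnM G p (h ⁻¹ᵁ U))) :
    Curv2.euler k X ((Coh.push h).obj G) = Curv2.euler k W G :=
  finsum_congr fun p => by rw [finrank_HH_push k h hh G hac p]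

theorem euler_push_affine (h : W ⟶ X) [IsAffineHom h]
    (hh : h ≫ (X ↘ Spec (CommRingCat.of k)) = W ↘ Spec (CommRingCat.of k))
    (G : W.Modules) [G.IsQuasicoherent] : Curv2.euler k X ((Coh.push h).obj G) = Curv2.euler k W G :=
  euler_push k h hh G fun U hU p hp => by
    obtain ⟨n, rfl⟩ := Nat.exists_eq_succ_of_ne_zero hp.ne'
    exact subsingleton_HnM_of_isAffineOpen G (hU.preimage h) n

end Groth.Agent.H06NormCurve
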