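import Mathlib

/-!
# Recognising the normalization of a ring

A finite extension `B` of `A` with normal local rings, equal to `A` after inverting an element regular on
both, is the integral closure of `A` in its total ring of fractions.
-/

set_option autoImplicit false
set_option linter.style.haveILetI false

universe u

open nonZeroDivisors

namespace Groth.Agent.H06NormCurve

theorem mem_span_singleton_of_isIntegral {C : Type*} [CommRing C] [IsDomain C] [IsIntegrallyClosed C]
    {A : Type*} [CommRing A] (f : A →+* C) {F : Type*} [CommRing F] [Algebra A F] {a s : A} (g : F →+* FractionRing C)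
    (hg : ∀ x, g (algebraMap A F x) = algebraMap C (FractionRing C) (f x)) (hs : f s ≠ 0) {q : F}
    (hq : IsIntegral A q) (h : q * algebraMap A F s = algebraMap A F a) : f a ∈ Ideal.span {f s} := by
  letI := f.toAlgebra
  have h1 : IsIntegral A (g q) := hq.map ({ g with commutes' := fun x => (hg x).trans (IsScalarTower.algebraMap_apply A C (FractionRing C) x).symm } : F →ₐ[A] FractionRing C)
  obtain ⟨c, hc⟩ := IsIntegrallyClosed.algebraMap_eq_of_integral (R := C) (h1.tower_top)
  refine Ideal.mem_span_singleton'.2 ⟨c, IsFractionRing.injective C (FractionRing C) ?_⟩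
  rw [map_mul, hc, ← hg, ← hg, ← map_mul, h]

theorem exists_algEquiv_integralClosure (A B : Type u) [CommRing A] [CommRing B] [Algebra A B]
    [Algebra.IsIntegral A B] (hinj : Function.Injective (algebraMap A B)) (t : A) (ht : t ∈ A⁰)
    (htB : algebraMap A B t ∈ B⁰) (hden : ∀ b : B, ∃ (n : ℕ) (a : A), algebraMap A B t ^ n * b = algebraMap A B a)
    (hnorm : ∀ (P : Ideal B) [P.IsMaximal], IsDomain (Localization.AtPrime P) ∧ IsIntegrallyClosed (Localization.AtPrime P)) :
    Nonempty (B ≃ₐ[A] integralClosure A (FractionRing A)) := by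
  let F := FractionRing A
  -- nonzerodivisors of `A` stay regular on `B`
  have hreg : ∀ s ∈ A⁰, algebraMap A B s ∈ B⁰ := by
    intro s hs
    refine mem_nonZeroDivisors_iff_right.2 fun b hb => ?_
    obtain ⟨n, a, ha⟩ := hden b
    have h1 : algebraMap A B (a * s) = 0 := by rw [map_mul, ← ha, mul_assoc, hb, mul_zero]
    have h2 : a = 0 := mem_nonZeroDivisors_iff_right.1 hs a (hinj (h1.trans (map_zero _).symm))
    rw [h2, map_zero, mul_comm] at ha
    exact mem_nonZeroDivisors_iff_right.1 (pow_mem htB n) b ha
  -- the map to the fractions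
  let L := FractionRing B
  have hu : ∀ y : A⁰, IsUnit (Algebra.ofId A L y) := fun y => by
    rw [Algebra.ofId_apply, IsScalarTower.algebraMap_apply A B L]
    exact IsLocalization.map_units L (⟨_, hreg y y.2⟩ : B⁰)
  let j : F →ₐ[A] L := IsLocalization.liftAlgHom (M := A⁰) (f := Algebra.ofId A L) hu
  have hji : Function.Injective j := by
    refine (injective_iff_map_eq_zero _).2 fun z hz => ?_
    obtain ⟨⟨a, s⟩, h⟩ := IsLocalization.surj A⁰ z
    have h0 : algebraMap A L a = 0 := by rw [← j.commutes, ← h, map_mul, hz, zero_mul]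
    rw [IsScalarTower.algebraMap_apply A B L] at h0
    have : a = 0 := hinj ((IsFractionRing.injective B L (h0.trans (map_zero _).symm)).trans (map_zero _).symm)
    rw [this, map_zero] at h
    exact (IsLocalization.map_units F s).mul_left_eq_zero.1 h
  have hmem : ∀ b : B, ∃ q : F, j q = algebraMap B L b := by
    intro b
    obtain ⟨n, a, ha⟩ := hden b
    have hv := IsLocalization.map_units F (⟨_, pow_mem ht n⟩ : A⁰)
    refine ⟨algebraMap A F a * hv.unit⁻¹, ?_⟩
    refine (hu ⟨_, pow_mem ht n⟩).mul_left_injective ?_
    show j _ * algebraMap A L (t ^ n) = algebraMap B L b * algebraMap A L (t ^ n)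
    rw [← j.commutes, ← map_mul, mul_assoc, hv.val_inv_mul, mul_one, j.commutes, j.commutes,
      IsScalarTower.algebraMap_apply A B L, IsScalarTower.algebraMap_apply A B L, ← map_mul, mul_comm b, map_pow, ha]
  choose φ₀ hφ₀ using hmem
  let φ : B →ₐ[A] integralClosure A F :=
    AlgHom.codRestrict
      { toFun := φ₀
        map_one' := hji (by rw [hφ₀, map_one, map_one])
        map_mul' := fun x y => hji (by rw [map_mul, hφ₀, hφ₀, hφ₀, map_mul])
        map_zero' := hji (by rw [hφ₀, map_zero, map_zero])
        map_add' := fun x y => hji (by rw [map_add, hφ₀, hφ₀, hφ₀, map_add])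
        commutes' := fun a => hji (by rw [hφ₀, j.commutes, ← IsScalarTower.algebraMap_apply A B L]) }
      (integralClosure A F) fun b => by
        refine (isIntegral_algHom_iff j hji).1 ?_
        show IsIntegral A (j (φ₀ b))
        rw [hφ₀]
        exact (Algebra.IsIntegral.isIntegral b).map (IsScalarTower.toAlgHom A B L)
  refine ⟨AlgEquiv.ofBijective φ ⟨fun x y hxy => ?_, fun q => ?_⟩⟩
  · have h1 : φ₀ x = φ₀ y := congrArg Subtype.val hxy
    refine IsFractionRing.injective B L ?_
    rw [← hφ₀, ← hφ₀, h1]
  · obtain ⟨⟨a, s⟩, h⟩ := IsLocalization.surj A⁰ (q : F)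
    have hloc : algebraMap A B a ∈ Ideal.span {algebraMap A B s} := by
      refine Ideal.mem_of_localization_maximal fun P hP => ?_
      haveI := hP
      obtain ⟨hd, hn⟩ := hnorm P
      let C := Localization.AtPrime P
      haveI := hd
      haveI := hn
      have hs0 : ∀ y : A⁰, algebraMap A C y ≠ 0 := fun y hy => by
        rw [IsScalarTower.algebraMap_apply A B C, IsLocalization.map_eq_zero_iff P.primeCompl] at hy
        obtain ⟨⟨c, hc⟩, hc'⟩ := hy
        exact hc (mem_nonZeroDivisors_iff_right.1 (hreg y y.2) c hc' ▸ P.zero_mem)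
      have hg : ∀ y : A⁰, IsUnit (((algebraMap C (FractionRing C)).comp (algebraMap A C)) y) := fun y =>
        Ne.isUnit ((map_ne_zero_iff _ (IsFractionRing.injective C (FractionRing C))).2 (hs0 y))
      have := mem_span_singleton_of_isIntegral (algebraMap A C) (F := F) (IsLocalization.lift hg)
        (fun x => IsLocalization.lift_eq hg x) (hs0 s) q.2 h
      rw [Ideal.map_span, Set.image_singleton, ← IsScalarTower.algebraMap_apply, ← IsScalarTower.algebraMap_apply]
      exact this
    obtain ⟨b, hb⟩ := Ideal.mem_span_singleton'.1 hloc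
    refine ⟨b, Subtype.ext ((IsLocalization.map_units F s).mul_left_injective ?_)⟩
    show φ₀ b * algebraMap A F s = (q : F) * algebraMap A F s
    refine hji ?_
    rw [h, map_mul, hφ₀, j.commutes, j.commutes, IsScalarTower.algebraMap_apply A B L, ← map_mul, hb,
      ← IsScalarTower.algebraMap_apply]

end Groth.Agent.H06NormCurve
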