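import Mathlib
import Groth.Prelude.Def_Pi1
import Groth.Prelude.Def_Curv2
import Groth.Agent.H06NormCurve.Algebra

/-!
# Normalization of a reduced scheme over an affine open

`π : X' ⟶ X` is finite, `X'` has normal local rings and `π` is an isomorphism over a dense open with
dense preimage.
-/

set_option autoImplicit false
set_option linter.style.haveILetI false

noncomputable section

universe u

open CategoryTheory AlgebraicGeometry TopologicalSpace Opposite nonZeroDivisors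

namespace Groth.Agent.H06NormCurve

theorem exists_mem_nonZeroDivisors {A : Type u} [CommRing A] [IsNoetherianRing A] [IsReduced A] (I : Ideal A)
    (hI : Dense ((PrimeSpectrum.zeroLocus (I : Set A))ᶜ)) : ∃ t ∈ I, t ∈ A⁰ := by
  classical
  have hfin := minimalPrimes.finite_of_isNoetherianRing A
  by_contra hcon
  push_neg at hcon
  have hsub : (I : Set A) ⊆ ⋃ q ∈ minimalPrimes A, (q : Set A) := by
    intro t ht
    by_contra hc
    refine hcon t ht (mem_nonZeroDivisors_iff_right.2 fun y hy => ?_)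
    have hy' : ∀ q ∈ minimalPrimes A, y ∈ q := fun q hq =>
      (hq.1.1.mem_or_mem (hy.symm ▸ q.zero_mem)).resolve_right fun hxq => hc (Set.mem_biUnion hq hxq)
    have hn : y ∈ nilradical A := by
      rw [nilradical_eq_sInf, Submodule.mem_sInf]
      intro J hJ
      haveI : Ideal.IsPrime J := hJ
      obtain ⟨q, hq, hqJ⟩ := Ideal.exists_minimalPrimes_le (I := (⊥ : Ideal A)) (J := J) bot_le
      exact hqJ (hy' q hq)
    simpa [nilradical_eq_zero] using hn
  obtain ⟨q, hq, hIq⟩ := (Ideal.subset_union_prime_finite hfin (f := id) ⊥ ⊥ fun q hq _ _ => hq.1.1).1 hsub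
  have hchoice : ∀ r ∈ hfin.toFinset.erase q, ∃ c ∈ r, c ∉ q := fun r hr => by
    rw [Finset.mem_erase, hfin.mem_toFinset] at hr
    by_contra hc
    push_neg at hc
    exact hr.1 (le_antisymm hc (hq.2 hr.2.1 hc))
  choose! c hc hcq using hchoice
  let d := ∏ r ∈ hfin.toFinset.erase q, c r
  have hd : d ∉ q := fun h => by
    obtain ⟨r, hr, hrq⟩ := (hq.1.1.prod_mem_iff).1 h
    exact hcq r hr hrq
  obtain ⟨P, hP1, hP2⟩ := hI.inter_open_nonempty (PrimeSpectrum.basicOpen d : Set (PrimeSpectrum A))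
    (PrimeSpectrum.basicOpen d).2 ⟨⟨q, hq.1.1⟩, hd⟩
  refine hP2 ?_
  obtain ⟨r, hr, hrP⟩ := Ideal.exists_minimalPrimes_le (I := (⊥ : Ideal A)) (J := P.asIdeal) bot_le
  rcases eq_or_ne r q with rfl | hne
  · exact (PrimeSpectrum.mem_zeroLocus _ _).2 fun a ha => hrP (hIq ha)
  · have hr' : r ∈ hfin.toFinset.erase q := Finset.mem_erase.2 ⟨hne, hfin.mem_toFinset.2 hr⟩
    exact absurd (hrP (r.prod_mem hr' (hc r hr'))) hP1

variable {X X' : Scheme.{u}}

theorem eq_bot_of_inf_basicOpen [IsReduced X] {V : X.Opens} (hV : IsAffineOpen V) {t : Γ(X, V)} (ht : t ∈ Γ(X, V)⁰)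
    {O : X.Opens} (hO : O ≤ V) (h : O ⊓ X.basicOpen t = ⊥) : O = ⊥ := by
  rw [eq_bot_iff]
  intro z hz
  obtain ⟨f, hfO, hzf⟩ := hV.exists_basicOpen_le ⟨z, hz⟩ (hO hz)
  have h0 : X.basicOpen (f * t) = ⊥ := by
    rw [Scheme.basicOpen_mul, eq_bot_iff, ← h]
    exact inf_le_inf_right _ hfO
  have hf : f = 0 := mem_nonZeroDivisors_iff_right.1 ht f ((basicOpen_eq_bot_iff (f * t)).1 h0)
  rw [hf, Scheme.basicOpen_zero] at hzf
  exact hzf

theorem isReduced_of_isNormalScheme (hX' : Pi1.IsNormalScheme X') : IsReduced X' := by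
  haveI : ∀ x : X', _root_.IsReduced (X'.presheaf.stalk x) := fun x => by
    haveI := (hX' x).1
    infer_instance
  exact isReduced_of_isReduced_stalk X'

variable (π : X' ⟶ X) {U : X.Opens}

theorem isIso_app_of_le (hπU : IsIso (π ∣_ U)) {W : X.Opens} (hW : W ≤ U) : IsIso (π.app W) := by
  have hi : IsIso ((π ∣_ U).app (U.ι ⁻¹ᵁ W)) := inferInstance
  rw [morphismRestrict_app π U (U.ι ⁻¹ᵁ W)] at hi
  haveI : IsIso (π.app (U.ι ''ᵁ (U.ι ⁻¹ᵁ W))) :=
    @IsIso.of_isIso_comp_right _ _ _ _ _ (π.app (U.ι ''ᵁ (U.ι ⁻¹ᵁ W))) _ (Functor.map_isIso _ _) hi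
  have hWeq : U.ι ''ᵁ (U.ι ⁻¹ᵁ W) = W := by
    rw [Scheme.Hom.image_preimage_eq_opensRange_inf, Scheme.Opens.opensRange_ι, inf_eq_right.2 hW]
  rw [← hWeq]
  infer_instance

variable [IsReduced X] [IsFinite π] (hX' : Pi1.IsNormalScheme X') (hU : Dense (U : Set X))
  (hU' : Dense ((π ⁻¹ᵁ U : X'.Opens) : Set X')) (hπU : IsIso (π ∣_ U))

include hX' hU hU' hπU in
theorem exists_chart [IsLocallyNoetherian X] {V : X.Opens} (hV : IsAffineOpen V) :
    letI := (π.app V).hom.toAlgebra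
    Module.Finite Γ(X, V) Γ(X', π ⁻¹ᵁ V) ∧ Function.Injective (π.app V) ∧
      ∃ t ∈ Γ(X, V)⁰, π.app V t ∈ Γ(X', π ⁻¹ᵁ V)⁰ ∧
        ∀ b : Γ(X', π ⁻¹ᵁ V), ∃ (n : ℕ) (a : Γ(X, V)), π.app V t ^ n * b = π.app V a := by
  letI : Algebra Γ(X, V) Γ(X', π ⁻¹ᵁ V) := (π.app V).hom.toAlgebra
  haveI := isReduced_of_isNormalScheme hX'
  haveI : IsNoetherianRing Γ(X, V) := IsLocallyNoetherian.component_noetherian ⟨V, hV⟩
  -- a nonzerodivisor with basic open in `U`
  let D : Set (PrimeSpectrum Γ(X, V)) := hV.fromSpec ⁻¹' (U : Set X)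
  have hDo : IsOpen D := U.2.preimage hV.fromSpec.continuous
  have hD : Dense D := hU.preimage hV.fromSpec.isOpenEmbedding.isOpenMap
  obtain ⟨I, hI⟩ := (PrimeSpectrum.isClosed_iff_zeroLocus_ideal Dᶜ).1 hDo.isClosed_compl
  obtain ⟨t, htI, ht⟩ := exists_mem_nonZeroDivisors I (by rw [← hI, compl_compl]; exact hD)
  have htU : X.basicOpen t ≤ U := by
    rw [← hV.fromSpec_image_basicOpen t]
    rintro _ ⟨P, hP, rfl⟩
    by_contra hPU
    have hPI : P ∈ PrimeSpectrum.zeroLocus (I : Set Γ(X, V)) := hI ▸ hPU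
    exact hP (hPI htI)
  -- `t` is regular upstairs
  have htB : π.app V t ∈ Γ(X', π ⁻¹ᵁ V)⁰ := by
    refine mem_nonZeroDivisors_iff_right.2 fun b hb => ?_
    haveI := isIso_app_of_le π hπU (inf_le_left : U ⊓ V ≤ U)
    let ρ := X.presheaf.map (homOfLE (inf_le_right : U ⊓ V ≤ V)).op
    let ρ' := X'.presheaf.map (homOfLE (π.preimage_mono (inf_le_right : U ⊓ V ≤ V))).op
    obtain ⟨c, hc⟩ := (ConcreteCategory.bijective_of_isIso (π.app (U ⊓ V))).2 (ρ' b)
    have hnat : π.app (U ⊓ V) (ρ t) = ρ' (π.app V t) :=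
      congr($(π.naturality (homOfLE (inf_le_right : U ⊓ V ≤ V)).op) t)
    have hct : c * ρ t = 0 := by
      refine (ConcreteCategory.bijective_of_isIso (π.app (U ⊓ V))).1 ?_
      rw [map_mul, hc, hnat, ← map_mul, hb, map_zero, map_zero]
    have h1 : X.basicOpen c ⊓ X.basicOpen t = ⊥ := by
      have h2 : X.basicOpen (c * ρ t) = ⊥ := by rw [hct, Scheme.basicOpen_zero]
      rw [Scheme.basicOpen_mul, Scheme.basicOpen_res] at h2
      rw [← h2, ← inf_assoc, inf_eq_left.2 (X.basicOpen_le c)]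
    have hc0 : c = 0 := (basicOpen_eq_bot_iff c).1
      (eq_bot_of_inf_basicOpen hV ht ((X.basicOpen_le c).trans inf_le_right) h1)
    rw [hc0, map_zero] at hc
    have h3 : π ⁻¹ᵁ (U ⊓ V) ⊓ X'.basicOpen b = ⊥ := by
      rw [← Scheme.basicOpen_res X' b (homOfLE (π.preimage_mono (inf_le_right : U ⊓ V ≤ V))).op]
      show X'.basicOpen (ρ' b) = ⊥
      rw [← hc, Scheme.basicOpen_zero]
    refine (basicOpen_eq_bot_iff b).1 ?_
    by_contra hne
    obtain ⟨y, hy, hyU⟩ := hU'.inter_open_nonempty (X'.basicOpen b : Set X') (X'.basicOpen b).2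
      ((Opens.ne_bot_iff_nonempty _).1 hne)
    have : y ∈ π ⁻¹ᵁ (U ⊓ V) ⊓ X'.basicOpen b := ⟨⟨hyU, X'.basicOpen_le b hy⟩, hy⟩
    rw [h3] at this
    exact this
  -- inverting `t`
  haveI := isIso_app_of_le π hπU htU
  let r := X.presheaf.map (homOfLE (X.basicOpen_le t)).op
  let r' := X'.presheaf.map (homOfLE (π.preimage_mono (X.basicOpen_le t))).op
  have hnat : ∀ a, π.app (X.basicOpen t) (r a) = r' (π.app V a) :=
    fun a => congr($(π.naturality (homOfLE (X.basicOpen_le t)).op) a)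
  letI : Algebra Γ(X', π ⁻¹ᵁ V) Γ(X', π ⁻¹ᵁ X.basicOpen t) := r'.hom.toAlgebra
  haveI hloc' : IsLocalization.Away (π.app V t) Γ(X', π ⁻¹ᵁ X.basicOpen t) := by
    exact (hV.preimage π).isLocalization_of_eq_basicOpen (π.app V t) (homOfLE (π.preimage_mono (X.basicOpen_le t)))
      (Scheme.preimage_basicOpen π t)
  haveI := hV.isLocalization_basicOpen t
  have hralg : ∀ a, algebraMap Γ(X, V) Γ(X, X.basicOpen t) a = r a := fun a => rfl
  refine ⟨IsFinite.finite_app (f := π) V hV, ?_, t, ht, htB, fun b => ?_⟩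
  · refine (injective_iff_map_eq_zero (π.app V).hom).2 fun a ha => ?_
    have h0 : r a = 0 := by
      refine (ConcreteCategory.bijective_of_isIso (π.app (X.basicOpen t))).1 ?_
      rw [hnat, show π.app V a = 0 from ha, map_zero, map_zero]
    rw [← hralg, IsLocalization.map_eq_zero_iff (Submonoid.powers t)] at h0
    obtain ⟨⟨_, m, rfl⟩, hm⟩ := h0
    exact mem_nonZeroDivisors_iff_right.1 (pow_mem ht m) a ((mul_comm _ _).trans hm)
  · obtain ⟨z, hz⟩ := (ConcreteCategory.bijective_of_isIso (π.app (X.basicOpen t))).2 (r' b)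
    obtain ⟨⟨a, ⟨_, n, rfl⟩⟩, ha⟩ := IsLocalization.surj (Submonoid.powers t) z
    rw [hralg, hralg] at ha
    refine ⟨n, a, ?_⟩
    have h1 : r' (π.app V t ^ n * b) = r' (π.app V a) := by
      rw [map_mul, ← map_pow, ← hnat, ← hnat, ← hz, ← map_mul, ← ha, mul_comm]
    obtain ⟨⟨_, m, rfl⟩, hm⟩ := (IsLocalization.eq_iff_exists (Submonoid.powers (π.app V t)) _).1 h1
    exact (mul_cancel_left_mem_nonZeroDivisors (pow_mem htB m)).1 hm

end Groth.Agent.H06NormCurve
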