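import Mathlib
import Groth.Prelude.Def_ClSub2
import Groth.Agent.H06NormCurve.Chart
import Groth.Agent.H29Fitt.Sheaf
import Groth.Agent.H06Mod.StalkExact
import Groth.Agent.H11Ample.Ample
import Groth.Agent.H16Derived.KFlat.SheafTensor
import Groth.Agent.H10Coh.QcqsPush
import Groth.Agent.H10Coh.Support

/-!
# The cokernel of `O_X → π_* O_{X'}` for the normalization of a reduced scheme
-/

set_option autoImplicit false
set_option linter.style.haveILetI false

noncomputable section

universe u

open CategoryTheory CategoryTheory.Limits AlgebraicGeometry TopologicalSpace Opposite nonZeroDivisors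

namespace Groth.Agent.H06NormCurve

theorem deltaInv_eq_zero (A : Type u) [CommRing A] [IsDomain A] [IsIntegrallyClosed A] : Curv2.deltaInv A = 0 := by
  refine Module.length_eq_zero_iff.2 (Submodule.Quotient.subsingleton_iff.2 (LinearMap.range_eq_top.2 fun z => ?_))
  obtain ⟨a, ha⟩ := IsIntegrallyClosed.algebraMap_eq_of_integral (R := A) z.2
  exact ⟨a, Subtype.ext ha⟩

variable {X X' : Scheme.{u}} (π : X' ⟶ X)

/-- The push forward of the structure sheaf. -/
abbrev pushO : X.Modules := (Scheme.Modules.pushforward π).obj (Coh.structureModule X')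

variable [IsReduced X] [IsLocallyNoetherian X] [IsFinite π] (hX' : Pi1.IsNormalScheme X') {U : X.Opens}
  (hU : Dense (U : Set X)) (hU' : Dense ((π ⁻¹ᵁ U : X'.Opens) : Set X')) (hπU : IsIso (π ∣_ U))

include hX' hU hU' hπU

theorem exists_stalk_equiv (x : X) :
    ∃ Ψ : (pushO π).presheaf.stalk x ≃ₗ[X.presheaf.stalk x]
        integralClosure (X.presheaf.stalk x) (FractionRing (X.presheaf.stalk x)),
      Ψ ((pushO π).presheaf.germ ⊤ x trivial (H11Ample.one (X := X') ⊤)) = 1 := by
  obtain ⟨V, hV, hx, -⟩ := exists_isAffineOpen_mem_and_subset (show x ∈ (⊤ : X.Opens) from trivial)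
  let A := Γ(X, V)
  let B := Γ(X', π ⁻¹ᵁ V)
  letI : Algebra A B := (π.app V).hom.toAlgebra
  obtain ⟨hfin, hinj, t, ht, htB, hden⟩ := exists_chart π hX' hU hU' hπU hV
  haveI : Module.Finite A B := hfin
  letI : Algebra A (X.presheaf.stalk x) := TopCat.Presheaf.algebra_section_stalk X.presheaf (⟨x, hx⟩ : V)
  haveI := hV.isLocalization_stalk ⟨x, hx⟩
  let A' := X.presheaf.stalk x
  let p := (hV.primeIdealOf ⟨x, hx⟩).asIdeal
  let M := Algebra.algebraMapSubmonoid B p.primeCompl
  let B' := Localization M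
  letI : Algebra A' B' := (IsLocalization.map B' (T := M) (algebraMap A B)
    (show p.primeCompl ≤ M.comap (algebraMap A B) from Submonoid.le_comap_map _) : A' →+* B').toAlgebra
  haveI : IsScalarTower A A' B' := .of_algebraMap_eq fun a => by
    rw [RingHom.algebraMap_toAlgebra, IsLocalization.map_eq]
    rfl
  haveI : Module.Finite A' B' := Module.Finite.of_isLocalization A B p.primeCompl
  haveI : Algebra.IsIntegral A' B' := Algebra.IsIntegral.of_finite A' B'
  have hinj' : Function.Injective (algebraMap A' B') := by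
    rw [RingHom.algebraMap_toAlgebra]
    haveI : IsLocalization (Submonoid.map (algebraMap A B) p.primeCompl) B' := inferInstanceAs (IsLocalization M B')
    exact IsLocalization.map_injective_of_injective (g := algebraMap A B) p.primeCompl A' B' hinj
  have key : ∀ {R : Type u} [CommRing R] (S : Submonoid R) {R' : Type u} [CommRing R'] [Algebra R R']
      [IsLocalization S R'] {r : R}, r ∈ R⁰ → algebraMap R R' r ∈ R'⁰ := by
    intro R _ S R' _ _ _ r hr
    refine mem_nonZeroDivisors_iff_right.2 fun z hz => ?_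
    obtain ⟨⟨c, s⟩, h⟩ := IsLocalization.surj S z
    have h1 : algebraMap R R' (c * r) = 0 := by rw [map_mul, ← h, mul_right_comm, hz, zero_mul]
    obtain ⟨m, hm⟩ := (IsLocalization.map_eq_zero_iff S R' _).1 h1
    rw [← mul_assoc] at hm
    have h2 : (m : R) * c = 0 := mem_nonZeroDivisors_iff_right.1 hr _ hm
    have h3 : algebraMap R R' c = 0 := (IsLocalization.map_eq_zero_iff S R' _).2 ⟨m, h2⟩
    rw [h3] at h
    exact (IsLocalization.map_units R' s).mul_left_eq_zero.1 h
  let t' : A' := algebraMap A A' t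
  have ht'B : algebraMap A' B' t' = algebraMap B B' (π.app V t) :=
    (IsScalarTower.algebraMap_apply A A' B' t).symm.trans (IsScalarTower.algebraMap_apply A B B' t)
  obtain ⟨e⟩ := exists_algEquiv_integralClosure A' B' hinj' t' (key p.primeCompl ht)
    (ht'B ▸ key M htB)
    (fun z => by
      obtain ⟨⟨b, ⟨_, s, hs, rfl⟩⟩, h⟩ := IsLocalization.surj M z
      obtain ⟨n, a, ha⟩ := hden b
      refine ⟨n, IsLocalization.mk' A' a (⟨s, hs⟩ : p.primeCompl), ?_⟩
      refine (IsLocalization.map_units B' (⟨_, s, hs, rfl⟩ : M)).mul_left_injective ?_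
      show algebraMap A' B' t' ^ n * z * algebraMap B B' (algebraMap A B s) =
        algebraMap A' B' _ * algebraMap B B' (algebraMap A B s)
      rw [mul_assoc, h, ht'B, ← map_pow, ← map_mul, ha, ← IsScalarTower.algebraMap_apply A B B' s,
        IsScalarTower.algebraMap_apply A A' B' s, ← map_mul, IsLocalization.mk'_spec,
        ← IsScalarTower.algebraMap_apply, IsScalarTower.algebraMap_apply A B B' a]
      rfl)
    (fun P hP => by
      let P₀ := P.comap (algebraMap B B')
      let y : PrimeSpectrum B := ⟨P₀, inferInstance⟩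
      have hV' : IsAffineOpen (π ⁻¹ᵁ V) := hV.preimage π
      have hy : hV'.fromSpec y ∈ π ⁻¹ᵁ V := hV'.range_fromSpec.le ⟨y, rfl⟩
      letI := TopCat.Presheaf.algebra_section_stalk X'.presheaf (⟨hV'.fromSpec y, hy⟩ : (π ⁻¹ᵁ V : X'.Opens))
      haveI : IsLocalization.AtPrime (X'.presheaf.stalk (hV'.fromSpec y)) P₀ := hV'.isLocalization_stalk' y hy
      obtain ⟨hd, hn⟩ := hX' (hV'.fromSpec y)
      let e := ((IsLocalization.algEquiv P₀.primeCompl (X'.presheaf.stalk (hV'.fromSpec y))
        (Localization.AtPrime P₀)).trans (IsLocalization.localizationLocalizationAtPrimeIsoLocalization M P)).toRingEquiv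
      haveI := hd
      haveI := hn
      exact ⟨e.symm.injective.isDomain _, IsIntegrallyClosed.of_equiv e⟩)
  let θ : B →ₗ[A] B' := (IsScalarTower.toAlgHom A B B').toLinearMap
  haveI : IsLocalizedModule p.primeCompl θ := isLocalizedModule_iff_isLocalization.2 inferInstance
  let ψ : Γ(pushO π, V) ≃ₗ[A] B :=
    { toFun := fun m => m
      invFun := fun m => m
      map_add' := fun _ _ => rfl
      map_smul' := fun _ _ => rfl
      left_inv := fun _ => rfl
      right_inv := fun _ => rfl }
  letI := Module.compHom ((pushO π).presheaf.stalk x) (algebraMap A A')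
  haveI : IsScalarTower A A' ((pushO π).presheaf.stalk x) := .of_algebraMap_smul fun _ _ => rfl
  haveI : IsLocalizedModule p.primeCompl (H29Fitt.germLin (pushO π) (⟨x, hx⟩ : V)) :=
    H29Fitt.isLocalizedModule_germLin (pushO π)
      (haveI := H10Coh.isQuasicoherent_unit (X := X');
        H10Coh.isQuasicoherent_pushforward_of_isAffineHom π _)
      hV ⟨x, hx⟩
  haveI : IsLocalizedModule p.primeCompl (θ.comp ψ.toLinearMap) :=
    IsLocalizedModule.of_linearEquiv_right p.primeCompl θ ψ
  let Ψ := IsLocalizedModule.linearEquiv p.primeCompl (H29Fitt.germLin (pushO π) (⟨x, hx⟩ : V)) (θ.comp ψ.toLinearMap)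
  refine ⟨(Ψ.extendScalarsOfIsLocalization p.primeCompl A').trans e.toLinearEquiv, ?_⟩
  show e (Ψ ((pushO π).presheaf.germ ⊤ x trivial (H11Ample.one (X := X') ⊤))) = 1
  refine (congrArg (fun z => e (Ψ z)) (TopCat.Presheaf.germ_res_apply (pushO π).presheaf (homOfLE (le_top : V ≤ ⊤)) x hx (H11Ample.one (X := X') ⊤)).symm).trans ?_
  refine (congrArg e ((IsLocalizedModule.linearEquiv_apply p.primeCompl _ _ _).trans ?_)).trans (map_one e)
  show algebraMap B B' (X'.presheaf.map _ (1 : Γ(X', ⊤))) = 1
  rw [map_one, map_one]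

omit [IsReduced X] [IsLocallyNoetherian X] [IsFinite π] hX' hU hU' hπU in
theorem stalk_unit (x : X) (a : X.presheaf.stalk x) :
    H06Mod.stalkLin (ClSub.unitToPush π) x (a • (Coh.structureModule X).presheaf.germ ⊤ x trivial (H11Ample.one ⊤)) =
      a • (pushO π).presheaf.germ ⊤ x trivial (H11Ample.one (X := X') ⊤) := by
  rw [map_smul]
  congr 1
  refine (H06Mod.stalkLin_germ _ x ⊤ trivial _).trans ?_
  congr 1
  exact map_one (π.app ⊤).hom

theorem mono_unit : Mono (ClSub.unitToPush π) := by
  refine Preadditive.mono_of_kernel_zero ((H16Derived.KFlat.Stalk.isZero_of_stalk fun x => by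
    obtain ⟨Ψ, hΨ⟩ := exists_stalk_equiv π hX' hU hU' hπU x
    have hinj : Function.Injective (H06Mod.stalkLin (ClSub.unitToPush π) x) := by
      refine (injective_iff_map_eq_zero _).2 fun w hw => ?_
      obtain ⟨a, rfl⟩ := (H11Ample.isGen_one (X := X) ⊤ x trivial).2 w
      have h := congrArg Ψ ((stalk_unit π x a).symm.trans hw)
      rw [map_smul, hΨ, map_zero, Algebra.smul_def, mul_one] at h
      have ha : a = 0 :=
        (injective_iff_map_eq_zero _).1 (IsFractionRing.injective (X.presheaf.stalk x) (FractionRing (X.presheaf.stalk x)))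
          a (congrArg Subtype.val h)
      exact ha ▸ zero_smul _ _
    haveI : Subsingleton ((DerSch.stalkFunctor X x).obj (kernel (ClSub.unitToPush π))) :=
      H10Coh.subsingleton_stalk_kernel _ x hinj
    exact ModuleCat.isZero_of_subsingleton _).eq_of_src _ _)

theorem length_coker (x : X) :
    Module.length (X.presheaf.stalk x) ((cokernel (ClSub.unitToPush π)).presheaf.stalk x) =
      Curv2.deltaInv (X.presheaf.stalk x) := by
  obtain ⟨Ψ, hΨ⟩ := exists_stalk_equiv π hX' hU hU' hπU x
  let s := ClSub.unitToPush π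
  let q₀ := H06Mod.stalkLin (cokernel.π s) x
  have hπ : Function.Surjective q₀ :=
    (ModuleCat.epi_iff_surjective _).1 (inferInstance : Epi ((DerSch.stalkFunctor X x).map (cokernel.π s)))
  let q := q₀ ∘ₗ Ψ.symm.toLinearMap
  have hq : Function.Surjective q := hπ.comp Ψ.symm.surjective
  have hone : ∀ a : X.presheaf.stalk x, Ψ.symm (algebraMap _ _ a) =
      a • (pushO π).presheaf.germ ⊤ x trivial (H11Ample.one (X := X') ⊤) := fun a => by
    refine Ψ.injective ?_
    rw [LinearEquiv.apply_symm_apply, map_smul, hΨ, Algebra.smul_def, mul_one]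
  have hker : LinearMap.ker q = LinearMap.range (Algebra.linearMap _ _) := by
    apply le_antisymm
    · intro v hv
      have hT : ((ShortComplex.mk s (cokernel.π s) (cokernel.condition _)).map
          (DerSch.stalkFunctor X x)).Exact := (ShortComplex.exact_cokernel s).map _
      obtain ⟨w, hw⟩ := (ShortComplex.moduleCat_exact_iff _).1 hT (Ψ.symm v) hv
      obtain ⟨a, rfl⟩ := (H11Ample.isGen_one (X := X) ⊤ x trivial).2 w
      exact ⟨a, Ψ.symm.injective ((hone a).trans ((stalk_unit π x a).symm.trans hw))⟩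
    · rintro _ ⟨a, rfl⟩
      show q₀ (Ψ.symm (algebraMap _ _ a)) = 0
      rw [hone, ← stalk_unit π]
      show ((DerSch.stalkFunctor X x).map s ≫ (DerSch.stalkFunctor X x).map (cokernel.π s)).hom _ = 0
      rw [← Functor.map_comp, cokernel.condition, Functor.map_zero]
      rfl
  exact ((Submodule.quotEquivOfEq _ _ hker).symm ≪≫ₗ q.quotKerEquivOfSurjective hq).length_eq.symm

omit [IsReduced X] [IsLocallyNoetherian X] [IsFinite π] hU hU' in
theorem deltaInv_eq_zero_of_mem {x : X} (hx : x ∈ U) : Curv2.deltaInv (X.presheaf.stalk x) = 0 := by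
  haveI := hπU
  haveI : IsOpenImmersion (π ∣_ U) := inferInstance
  obtain ⟨w, hw'⟩ := (π ∣_ U).homeomorph.surjective (⟨x, hx⟩ : U.toScheme)
  have hw : (π ∣_ U) w = (⟨x, hx⟩ : U.toScheme) := hw'
  haveI : IsIso ((π ∣_ U).stalkMap w) := inferInstance
  let e : X.presheaf.stalk x ≅ X'.presheaf.stalk w.1 :=
    (U.stalkIso ⟨x, hx⟩).symm ≪≫ U.toScheme.presheaf.stalkCongr (Inseparable.of_eq hw.symm) ≪≫
      asIso ((π ∣_ U).stalkMap w) ≪≫ (π ⁻¹ᵁ U).stalkIso w
  obtain ⟨hd, hn⟩ := hX' w.1
  haveI := hd
  haveI := hn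
  haveI := e.commRingCatIsoToRingEquiv.injective.isDomain _
  haveI : IsIntegrallyClosed (X.presheaf.stalk x) := IsIntegrallyClosed.of_equiv e.commRingCatIsoToRingEquiv.symm
  exact deltaInv_eq_zero _

end Groth.Agent.H06NormCurve
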