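import Mathlib
import Groth.Agent.H06NormCurve.Stalk
import Groth.Agent.H06NormCurve.Push
import Groth.Agent.H06NormCurve.FiniteSupport
import Groth.Agent.H10Coh.FinType2
import Groth.Agent.H10Coh.AffinePush

/-!
# Euler characteristic of the normalization of a reduced proper curve
-/

set_option autoImplicit false
set_option linter.style.haveILetI false

universe u

open CategoryTheory CategoryTheory.Limits AlgebraicGeometry TopologicalSpace

attribute [local instance] Curv2.resAlgebra

namespace Groth.Agent.H06NormCurve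

/-- A point that is not closed on a scheme with components of dimension at most one is maximal. -/
theorem isMax_of_not_isClosed {X : Scheme.{u}}
    (hequi : ∀ Z ∈ irreducibleComponents (X : Type u), topologicalKrullDim Z ≤ 1) {x : X}
    (hx : ¬ IsClosed ({x} : Set X)) : IsMax x := by
  intro z hxz
  by_contra hzx
  obtain ⟨y, hy, hyx⟩ : ∃ y, x ⤳ y ∧ y ≠ x := by
    by_contra hc
    push_neg at hc
    refine hx ?_
    rw [← closure_eq_iff_isClosed]
    exact Set.Subset.antisymm (fun y hy => hc y (specializes_iff_mem_closure.2 hy)) subset_closure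
  let C := irreducibleComponent z
  have hCc : IsClosed C := isClosed_irreducibleComponent
  have hzC : z ∈ C := mem_irreducibleComponent
  have hzx' : z ⤳ x := hxz
  have hxC : x ∈ C := hzx'.mem_closed hCc hzC
  have hyC : y ∈ C := hy.mem_closed hCc hxC
  let f : C → IrreducibleCloseds C := fun a => ⟨closure {a}, isIrreducible_singleton.closure, isClosed_closure⟩
  have hlt : ∀ a b : C, b.1 ⤳ a.1 → a.1 ≠ b.1 → f a < f b := fun a b h hne => by
    refine lt_of_le_of_ne (closure_minimal (Set.singleton_subset_iff.2 (specializes_iff_mem_closure.1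
      ((subtype_specializes_iff b a).2 h))) isClosed_closure) fun he => hne ?_
    have h' : closure ({a} : Set C) = closure {b} := congrArg (fun t : IrreducibleCloseds C => (t : Set C)) he
    exact congrArg Subtype.val (inseparable_iff_closure_eq.2 h').eq
  have hzx0 : x ≠ z := fun h => hzx (h ▸ le_rfl)
  have h3 : ((2 : ℕ) : WithBot ℕ∞) ≤ Order.krullDim (IrreducibleCloseds C) := by
    let p : LTSeries (IrreducibleCloseds C) :=
      { length := 2
        toFun := ![f ⟨y, hyC⟩, f ⟨x, hxC⟩, f ⟨z, hzC⟩]
        step := fun i => by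
          fin_cases i
          · exact hlt ⟨y, hyC⟩ ⟨x, hxC⟩ hy hyx
          · exact hlt ⟨x, hxC⟩ ⟨z, hzC⟩ hzx' hzx0 }
    exact Order.LTSeries.length_le_krullDim p
  exact absurd (h3.trans (hequi C (irreducibleComponent_mem_irreducibleComponents z))) (by decide)

theorem ringKrullDim_stalk_le_zero {X : Scheme.{u}}
    (hequi : ∀ Z ∈ irreducibleComponents (X : Type u), topologicalKrullDim Z ≤ 1) {x : X}
    (hx : ¬ IsClosed ({x} : Set X)) : ringKrullDim (X.presheaf.stalk x) ≤ 0 := by
  rw [ringKrullDim_stalk_eq_coheight]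
  exact WithBot.coe_le_coe.2 (le_of_eq (Order.coheight_eq_zero.2 (isMax_of_not_isClosed hequi hx)))

variable {X X' : Scheme.{u}} (π : X' ⟶ X) [IsReduced X] [IsFinite π] (hX' : Pi1.IsNormalScheme X') {U : X.Opens}
  (hU : Dense (U : Set X)) (hU' : Dense ((π ⁻¹ᵁ U : X'.Opens) : Set X')) (hπU : IsIso (π ∣_ U))

include hX' hU hU' hπU

theorem exists_support [AlgebraicGeometry.IsNoetherian X]
    (hequi : ∀ Z ∈ irreducibleComponents (X : Type u), topologicalKrullDim Z ≤ 1) :
    (CohB1.support (cokernel (ClSub.unitToPush π))).Finite ∧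
      (∀ y ∈ CohB1.support (cokernel (ClSub.unitToPush π)), IsClosed ({y} : Set X)) ∧
      ∀ y, y ∉ CohB1.support (cokernel (ClSub.unitToPush π)) →
        Subsingleton ((cokernel (ClSub.unitToPush π)).presheaf.stalk y) := by
  have hlen := length_coker π hX' hU hU' hπU
  have hQ : Coh.IsCoh (cokernel (ClSub.unitToPush π)) := H10Coh.isCoh_cokernel _ (H10Coh.isCoh_structureModule' X).1
    (H10Coh.isCoh_push_of_isFinite π _ (H10Coh.isCoh_structureModule' X'))
  let T := CohB1.support (cokernel (ClSub.unitToPush π))
  have hTcl : IsClosed T := H10Coh.isClosed_support _ hQ.2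
  have hsub : ∀ y, y ∉ T → Subsingleton ((cokernel (ClSub.unitToPush π)).presheaf.stalk y) := fun y hy => not_not.1 hy
  have hclosed : ∀ y ∈ T, IsClosed ({y} : Set X) := fun y hy => by
    by_contra hc
    haveI : Ring.KrullDimLE 0 (X.presheaf.stalk y) := Ring.krullDimLE_iff.2 (ringKrullDim_stalk_le_zero hequi hc)
    have hK : IsField (X.presheaf.stalk y) := Ring.KrullDimLE.isField_of_isReduced
    have h0 : Curv2.deltaInv (X.presheaf.stalk y) = 0 := by
      letI := hK.toField
      exact deltaInv_eq_zero _
    rw [← hlen y, Module.length_eq_zero_iff] at h0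
    exact hy h0
  have hTfin : T.Finite := by
    obtain ⟨F, hF, hFc, hFi, hFu⟩ := NoetherianSpace.exists_finite_set_isClosed_irreducible (α := X) hTcl
    rw [hFu]
    refine hF.sUnion fun Z hZ => ?_
    obtain ⟨g, hg⟩ := QuasiSober.sober (hFi Z hZ) (hFc Z hZ)
    have hgT : g ∈ T := hFu ▸ ⟨Z, hZ, hg.mem⟩
    rw [← hg.def, (hclosed g hgT).closure_eq]
    exact Set.finite_singleton g
  exact ⟨hTfin, hclosed, hsub⟩

/-- Only finitely many points have a nonzero δ-invariant. -/
theorem finite_deltaInv_ne_zero [AlgebraicGeometry.IsNoetherian X]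
    (hequi : ∀ Z ∈ irreducibleComponents (X : Type u), topologicalKrullDim Z ≤ 1) :
    {x : X | Curv2.deltaInv (X.presheaf.stalk x) ≠ 0}.Finite := by
  obtain ⟨hfin, -, hsub⟩ := exists_support π hX' hU hU' hπU hequi
  refine hfin.subset fun x hx => ?_
  by_contra hc
  exact hx (by rw [← length_coker π hX' hU hU' hπU x, Module.length_eq_zero_iff]; exact hsub x hc)

open Classical in
theorem euler_normalization (k : Type u) [Field k] [X.Over (Spec (CommRingCat.of k))]
    [IsProper (X ↘ Spec (CommRingCat.of k))]
    (hequi : ∀ Z ∈ irreducibleComponents (X : Type u), topologicalKrullDim Z ≤ 1) :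
    letI : X'.Over (Spec (CommRingCat.of k)) := ⟨π ≫ (X ↘ (Spec (CommRingCat.of k)))⟩
    Curv2.euler k X' (Coh.structureModule X') =
      Curv2.euler k X (Coh.structureModule X) +
        ∑ᶠ x : X, (if IsClosed ({x} : Set X) then
          ((Module.finrank k (X.residueField x) : ℤ) * ((Curv2.deltaInv (X.presheaf.stalk x)).toNat : ℤ)) else 0) := by
  letI : X'.Over (Spec (CommRingCat.of k)) := ⟨π ≫ (X ↘ (Spec (CommRingCat.of k)))⟩
  haveI : IsLocallyNoetherian X := LocallyOfFiniteType.isLocallyNoetherian (X ↘ Spec (CommRingCat.of k))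
  haveI : CompactSpace X := QuasiCompact.compactSpace_of_compactSpace (X ↘ Spec (CommRingCat.of k))
  haveI : AlgebraicGeometry.IsNoetherian X := ⟨⟩
  let s := ClSub.unitToPush π
  haveI : Mono s := mono_unit π hX' hU hU' hπU
  have hP : Coh.IsCoh (pushO π) := H10Coh.isCoh_push_of_isFinite π _ (H10Coh.isCoh_structureModule' X')
  have hQ : Coh.IsCoh (cokernel s) := H10Coh.isCoh_cokernel s (H10Coh.isCoh_structureModule' X).1 hP
  let S : ShortComplex X.Modules := ShortComplex.mk s (cokernel.π s) (cokernel.condition s)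
  have hS : S.ShortExact :=
    { exact := ShortComplex.exact_cokernel s
      mono_f := inferInstanceAs (Mono s)
      epi_g := inferInstanceAs (Epi (cokernel.π s)) }
  have hO : Coh.IsCoh S.X₁ := H10Coh.isCoh_structureModule' X
  have h1 := H25Euler.euler_add (k := k) hS hO hP hQ
  have h1' : Curv2.euler k X (pushO π) = Curv2.euler k X (Coh.structureModule X) + Curv2.euler k X (cokernel s) := h1
  have h2 : Curv2.euler k X (pushO π) = Curv2.euler k X' (Coh.structureModule X') := by
    haveI := H10Coh.isQuasicoherent_unit (X := X')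
    exact euler_push_affine k π rfl (Coh.structureModule X')
  rw [← h2, h1']
  congr 1
  -- the support
  have hlen := length_coker π hX' hU hU' hπU
  obtain ⟨hTfin, hclosed, hsub⟩ := exists_support π hX' hU hU' hπU hequi
  obtain ⟨hfd, hsum⟩ := euler_finite_support (k := k) hQ hTfin.toFinset
    (fun z hz => hclosed z (hTfin.mem_toFinset.1 hz)) (fun y hy => hsub y fun h => hy (hTfin.mem_toFinset.2 h))
  rw [hsum]
  symm
  refine (finsum_eq_sum_of_support_subset _ (s := hTfin.toFinset) ?_).trans (Finset.sum_congr rfl fun x hx => ?_)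
  · intro x hx
    rw [Function.mem_support] at hx
    by_contra hxT
    refine hx ?_
    split
    · have : Curv2.deltaInv (X.presheaf.stalk x) = 0 := by
        rw [← hlen x, Module.length_eq_zero_iff]
        exact hsub x fun h => hxT (hTfin.mem_toFinset.2 h)
      rw [this]
      simp
    · rfl
  · rw [if_pos (hclosed x (hTfin.mem_toFinset.1 hx))]
    haveI := hfd x hx
    rw [finrank_stk (k := k), hlen x]
    push_cast
    rfl

end Groth.Agent.H06NormCurve
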