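import Mathlib
import Groth.Prelude.Def_CurvBase
import Groth.Agent.H06Wedge.Backward
import Groth.Agent.H06Wedge.Scheme
import Groth.Agent.H06DeltaBC.NormFibre
import Groth.Agent.H29Node.Completion
import Groth.Agent.H19Grp.RegularSmooth
import Groth.Agent.H4Depth.Regular
import Groth.Agent.H05EGA4.CompleteNormalization
import Groth.Agent.H06NormCurve.Stalk

/-!
# Nodes over an algebraically closed field: reducedness and the δ-invariant
-/

set_option autoImplicit false
set_option linter.style.haveILetI false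

universe u

open CategoryTheory CategoryTheory.Limits AlgebraicGeometry TopologicalSpace IsLocalRing

namespace Groth.Agent.H06NormCurve

theorem nonempty_cpl_congr {A B : Type u} [CommRing A] [CommRing B] [IsLocalRing A] [IsLocalRing B] (φ : A ≃+* B) :
    Nonempty (Curv2.cpl A ≃+* Curv2.cpl B) := by
  letI : Algebra A B := φ.toRingHom.toAlgebra
  haveI : IsLocalHom (algebraMap A B) :=
    ⟨fun a (ha : IsUnit (φ a)) => by simpa using ha.map φ.symm⟩
  haveI : Module.Flat A B := Module.Flat.of_linearEquiv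
    (AlgEquiv.ofRingEquiv (f := φ) (fun _ => rfl) : A ≃ₐ[A] B).toLinearEquiv.symm
  obtain ⟨E, -⟩ := H29Node.exists_completion_equiv A B (by
      refine le_antisymm ?_ fun b hb => ?_
      · exact ((IsLocalRing.local_hom_TFAE (algebraMap A B)).out 0 2 rfl rfl).mp ‹_›
      · rw [← φ.apply_symm_apply b]
        exact Ideal.mem_map_of_mem _ ((mem_maximalIdeal _).2 fun hu => (mem_maximalIdeal b).1 hb (by
          simpa using hu.map φ)))
    fun b => ⟨φ.symm b, by
      show b - φ (φ.symm b) ∈ _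
      rw [φ.apply_symm_apply, sub_self]; exact zero_mem _⟩
  exact ⟨E⟩

theorem span_pair_eq (K : Type u) [Field K] :
    Ideal.span {(MvPowerSeries.X 0 * MvPowerSeries.X 1 : MvPowerSeries (Fin 2) K)} =
      Ideal.span {f : MvPowerSeries (Fin 2) K | ∃ i j : Fin 2, i ≠ j ∧ f = MvPowerSeries.X i * MvPowerSeries.X j} := by
  congr 1
  ext f
  simp only [Set.mem_singleton_iff, Set.mem_setOf_eq, Fin.exists_fin_two]
  constructor
  · rintro rfl; simp
  · simp [mul_comm]

/-- The completion of the local ring at a node, over an algebraically closed field. -/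
theorem exists_multicross {k : Type u} [Field k] [IsAlgClosed k] {X : Scheme.{u}} [X.Over (Spec (CommRingCat.of k))]
    {x : X} (h : Curv2.IsNode k X x) :
    Nonempty (Curv2.cpl (X.presheaf.stalk x) ≃+* (MvPowerSeries (Fin 2) (AlgebraicClosure k) ⧸
      Ideal.span {f : MvPowerSeries (Fin 2) (AlgebraicClosure k) |
        ∃ i j : Fin 2, i ≠ j ∧ f = MvPowerSeries.X i * MvPowerSeries.X j})) := by
  obtain ⟨-, xb, hxb, e, -⟩ := h
  haveI : IsIso (CommRingCat.ofHom (algebraMap k (AlgebraicClosure k))) :=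
    (ConcreteCategory.isIso_iff_bijective _).2 IsAlgClosed.algebraMap_bijective_of_isIntegral
  haveI : IsIso (Spec.map (CommRingCat.ofHom (algebraMap k (AlgebraicClosure k)))) := inferInstance
  haveI : IsIso (Curv2.bcFst k X (AlgebraicClosure k)) := by
    delta Curv2.bcFst
    exact pullback_fst_iso_of_right_iso _ _
  subst hxb
  obtain ⟨E⟩ := nonempty_cpl_congr (asIso ((Curv2.bcFst k X (AlgebraicClosure k)).stalkMap xb)).commRingCatIsoToRingEquiv
  exact ⟨E.trans (e.trans (Ideal.quotEquivOfEq (span_pair_eq _)))⟩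

theorem isReduced_of_multicross {K A : Type u} [Field K] [CommRing A] [IsLocalRing A] [IsNoetherianRing A] {n : ℕ}
    [NeZero n] (e : Curv2.cpl A ≃+* (MvPowerSeries (Fin n) K ⧸ Ideal.span {f : MvPowerSeries (Fin n) K |
        ∃ i j : Fin n, i ≠ j ∧ f = MvPowerSeries.X i * MvPowerSeries.X j})) : _root_.IsReduced A := by
  obtain ⟨θ, -, hker, -⟩ := H06Wedge.exists_axes K n
  haveI : _root_.IsReduced (MvPowerSeries (Fin n) K ⧸ Ideal.span {f : MvPowerSeries (Fin n) K |
      ∃ i j : Fin n, i ≠ j ∧ f = MvPowerSeries.X i * MvPowerSeries.X j}) :=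
    isReduced_of_injective _ (RingHom.lift_injective_of_ker_le_ideal _ (fun x hx => RingHom.mem_ker.mp (hker.ge hx)) hker.le)
  haveI : _root_.IsReduced (Curv2.cpl A) := isReduced_of_injective e e.injective
  haveI : IsHausdorff (maximalIdeal A) A :=
    IsHausdorff.of_le_jacobson _ _ (maximalIdeal_le_jacobson _)
  exact isReduced_of_injective (algebraMap A (Curv2.cpl A)) (AdicCompletion.of_injective _ _)

variable {k : Type u} [Field k] [IsAlgClosed k] {X : Scheme.{u}} [X.Over (Spec (CommRingCat.of k))]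
  [LocallyOfFiniteType (X ↘ Spec (CommRingCat.of k))]

theorem isRegularLocalRing_of_smooth_nhd {x : X}
    (h : ∃ U : X.Opens, x ∈ U ∧ Smooth (U.ι ≫ (X ↘ Spec (CommRingCat.of k)))) :
    IsRegularLocalRing (X.presheaf.stalk x) := by
  obtain ⟨U, hx, hU⟩ := h
  haveI := hU
  haveI := H19Grp.isRegularLocalRing_stalk_of_smooth (U.ι ≫ (X ↘ Spec (CommRingCat.of k))) ⟨x, hx⟩
  exact IsRegularLocalRing.of_ringEquiv (U.stalkIso ⟨x, hx⟩).commRingCatIsoToRingEquiv

/-- A scheme of finite type with at worst nodal singularities is reduced. -/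
theorem isReduced_of_atWorstNodal (hX : Curv2.AtWorstNodal k X) : IsReduced X := by
  haveI : IsLocallyNoetherian X := LocallyOfFiniteType.isLocallyNoetherian (X ↘ Spec (CommRingCat.of k))
  haveI : JacobsonSpace X := LocallyOfFiniteType.jacobsonSpace (X ↘ Spec (CommRingCat.of k))
  have hred : ∀ x : X, IsClosed ({x} : Set X) → _root_.IsReduced (X.presheaf.stalk x) := by
    intro x hx
    rcases hX x hx with h | h
    · haveI := isRegularLocalRing_of_smooth_nhd (k := k) h
      haveI := H4Depth.isDomain_of_isRegularLocalRing (X.presheaf.stalk x)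
      infer_instance
    · obtain ⟨e⟩ := exists_multicross h
      exact isReduced_of_multicross e
  refine ⟨fun V => ⟨fun s hs => ?_⟩⟩
  by_contra hs0
  let Z : Set X := {y | ∃ hy : y ∈ V, X.presheaf.germ V y hy s ≠ 0}
  have hZne : Z.Nonempty := by
    by_contra hc
    refine hs0 (X.IsSheaf.section_ext (fun y hy => ?_))
    have h0 : X.presheaf.germ V y hy s = X.presheaf.germ V y hy 0 := by
      rw [map_zero]
      by_contra hne
      exact hc ⟨y, hy, hne⟩
    obtain ⟨W, hyW, i, j, hW⟩ := X.presheaf.germ_eq y hy hy s 0 h0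
    exact ⟨W, i.le, hyW, hW⟩
  have hZlc : IsLocallyClosed Z := by
    let O : Set X := {y | ∃ hy : y ∈ V, X.presheaf.germ V y hy s = 0}
    have hO : IsOpen O := by
      refine isOpen_iff_forall_mem_open.2 fun y ⟨hy, h0⟩ => ?_
      obtain ⟨W, hyW, i, j, hW⟩ := X.presheaf.germ_eq y hy hy s 0 (h0.trans (map_zero _).symm)
      refine ⟨W, fun z hz => ⟨i.le hz, ?_⟩, W.2, hyW⟩
      rw [← TopCat.Presheaf.germ_res_apply X.presheaf i z hz s, hW, map_zero, map_zero]
    refine ⟨(V : Set X), Oᶜ, V.2, hO.isClosed_compl, Set.ext fun y => ?_⟩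
    constructor
    · rintro ⟨hy, hne⟩
      exact ⟨hy, fun ⟨_, h0⟩ => hne h0⟩
    · rintro ⟨hy, hn⟩
      exact ⟨hy, fun h0 => hn ⟨hy, h0⟩⟩
  obtain ⟨y, ⟨hy, hne⟩, hyc⟩ := nonempty_inter_closedPoints hZne hZlc
  haveI := hred y hyc
  exact hne ((hs.map (X.presheaf.germ V y hy).hom).eq_zero)

variable [IsReduced X] (hdim : ∀ Z ∈ irreducibleComponents (X : Type u), topologicalKrullDim Z = 1)

include hdim in
theorem deltaInv_of_isNode {x : X} (h : Curv2.IsNode k X x) : Curv2.deltaInv (X.presheaf.stalk x) = 1 := by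
  obtain ⟨e⟩ := exists_multicross h
  have h2 := (H06Wedge.invariants_of_completion_multicross (AlgebraicClosure k) (X.presheaf.stalk x)
    (H06Wedge.ringKrullDim_stalk_of_pure_one (K := k) hdim h.1)
    (H06DeltaBC.isNagata_stalk k (X ↘ (Spec (CommRingCat.of k))) x) 2 e).2
  rcases ENat.ne_top_iff_exists.1 (fun ht : Curv2.deltaInv (X.presheaf.stalk x) = ⊤ => by rw [ht, top_add] at h2; exact ENat.top_ne_natCast 2 h2) with ⟨d, hd⟩
  rw [← hd] at h2 ⊢
  norm_cast at h2 ⊢
  omega

theorem deltaInv_of_smooth_nhd {x : X}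
    (h : ∃ U : X.Opens, x ∈ U ∧ Smooth (U.ι ≫ (X ↘ Spec (CommRingCat.of k)))) :
    Curv2.deltaInv (X.presheaf.stalk x) = 0 := by
  haveI := isRegularLocalRing_of_smooth_nhd (k := k) h
  haveI := H4Depth.isDomain_of_isRegularLocalRing (X.presheaf.stalk x)
  haveI := H05EGA4.isIntegrallyClosed_of_isRegularLocalRing (X.presheaf.stalk x)
  exact deltaInv_eq_zero _

end Groth.Agent.H06NormCurve
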