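import Mathlib
import Groth.Agent.H17.Birat

/-!
# A finite map bijective on generic points with bijective residue maps is iso over a dense open
-/

set_option autoImplicit false
set_option linter.style.haveILetI false

universe u

open CategoryTheory AlgebraicGeometry TopologicalSpace

namespace Groth.Agent.H06NormCurve

theorem dense_of_genericPoints_subset {Z : Type*} [TopologicalSpace Z] [QuasiSober Z] {S : Set Z}
    (h : ∀ γ ∈ genericPoints Z, γ ∈ S) : Dense S := fun z => by
  obtain ⟨γ, hγ, hz⟩ := H17.exists_genericPoint_specializes z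
  exact hz.mem_closed isClosed_closure (subset_closure (h γ hγ))

theorem isField_stalk_of_genericPoint {X : Scheme.{u}} [IsReduced X] {x : X} (hx : x ∈ genericPoints X) :
    IsField (X.presheaf.stalk x) := by
  haveI : Ring.KrullDimLE 0 (X.presheaf.stalk x) := by
    rw [Ring.krullDimLE_iff, ringKrullDim_stalk_eq_coheight]
    refine WithBot.coe_le_coe.2 (le_of_eq (Order.coheight_eq_zero.2 fun y hy => ?_))
    have h : y ⤳ x := hy
    obtain rfl : y = x := (H17.mem_genericPoints_iff.1 hx) y h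
    exact le_rfl
  exact Ring.KrullDimLE.isField_of_isReduced

theorem isIso_stalkMap_of_residue {X X' : Scheme.{u}} [IsReduced X] [IsReduced X'] (π : X' ⟶ X) {x' : X'}
    (hx' : x' ∈ genericPoints X') (hx : π x' ∈ genericPoints X)
    (hres : Function.Bijective (π.residueFieldMap x').hom) : IsIso (π.stalkMap x') := by
  have h1 := IsLocalRing.isField_iff_maximalIdeal_eq.1 (isField_stalk_of_genericPoint hx)
  have h2 := IsLocalRing.isField_iff_maximalIdeal_eq.1 (isField_stalk_of_genericPoint hx')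
  refine (ConcreteCategory.isIso_iff_bijective _).2 ⟨fun a b hab => ?_, fun c => ?_⟩
  · have h : X.residue (π x') a = X.residue (π x') b := hres.1 (by
      rw [← CommRingCat.comp_apply, ← CommRingCat.comp_apply, Scheme.residue_residueFieldMap,
        CommRingCat.comp_apply, CommRingCat.comp_apply, hab])
    have := Ideal.Quotient.eq.1 h
    rw [h1] at this
    exact sub_eq_zero.1 this
  · obtain ⟨d, hd⟩ := hres.2 (X'.residue x' c)
    obtain ⟨a, rfl⟩ := X.residue_surjective (π x') d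
    refine ⟨a, ?_⟩
    rw [← CommRingCat.comp_apply, Scheme.residue_residueFieldMap, CommRingCat.comp_apply] at hd
    have := Ideal.Quotient.eq.1 hd
    rw [h2] at this
    exact sub_eq_zero.1 this

theorem exists_dense_isIso {X X' : Scheme.{u}} [IsReduced X] [IsReduced X'] [AlgebraicGeometry.IsNoetherian X]
    (π : X' ⟶ X) [IsFinite π]
    (hbij : Set.BijOn (fun x : X' => π x) (genericPoints X') (genericPoints X))
    (hres : ∀ x ∈ genericPoints X', Function.Bijective (π.residueFieldMap x).hom) :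
    ∃ U : X.Opens, Dense (U : Set X) ∧ Dense ((π ⁻¹ᵁ U : X'.Opens) : Set X') ∧ IsIso (π ∣_ U) := by
  classical
  have hiso : ∀ x ∈ genericPoints X', IsIso (π.stalkMap x) := fun x hx =>
    isIso_stalkMap_of_residue π hx (hbij.mapsTo hx) (hres x hx)
  have hfin : (genericPoints X).Finite := genericPoints.finite NoetherianSpace.finite_irreducibleComponents
  let W : ↥(genericPoints X') → X.Opens := fun x =>
    ⟨(⋃ γ ∈ genericPoints X \ {π x.1}, closure {γ})ᶜ,
      (Set.Finite.isClosed_biUnion (hfin.subset Set.sdiff_subset) fun _ _ => isClosed_closure).isOpen_compl⟩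
  have hWx : ∀ x, π x.1 ∈ W x := fun x hmem => by
    obtain ⟨γ, hγ, hcl⟩ := Set.mem_iUnion₂.1 hmem
    exact hγ.2 ((H17.mem_genericPoints_iff.1 (hbij.mapsTo x.2)) γ (specializes_iff_mem_closure.2 hcl))
  have hWu : ∀ x : ↥(genericPoints X'), ∀ γ ∈ genericPoints X, γ ∈ W x → γ = π x.1 := fun x γ hγ hmem => by
    by_contra hne
    exact hmem (Set.mem_iUnion₂.2 ⟨γ, ⟨hγ, hne⟩, subset_closure rfl⟩)
  have hch : ∀ x : ↥(genericPoints X'), ∃ (U : X'.Opens) (V : X.Opens) (e : U ≤ π ⁻¹ᵁ V),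
      x.1 ∈ U ∧ π x.1 ∈ V ∧ V ≤ W x ∧ IsIso (π.resLE V U e) := fun x => by
    obtain ⟨V₀, hV₀, hxV, hle⟩ := exists_isAffineOpen_mem_and_subset (hWx x)
    obtain ⟨U, V, e, h1, h2, h3, h4⟩ := H17.Birat.exists_birational_chart π hbij hiso (Or.inl inferInstance)
      x.2 hV₀ hxV fun γ hγ hγV => hWu x γ hγ (hle hγV)
    exact ⟨U, V, e, h1, h2, h3.trans hle, h4⟩
  choose U V e hxU hxV hVW hI using hch
  have hd : ∀ i j, i ≠ j → Disjoint (V i) (V j) := fun i j hij => by
    rw [disjoint_iff, eq_bot_iff]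
    rintro z ⟨hzi, hzj⟩
    obtain ⟨γ, hγ, hγz⟩ := H17.exists_genericPoint_specializes z
    have hi := hWu i γ hγ (hγz.mem_open (W i).2 (hVW i hzi))
    have hj := hWu j γ hγ (hγz.mem_open (W j).2 (hVW j hzj))
    exact absurd (Subtype.ext (hbij.injOn i.2 j.2 (hi.symm.trans hj))) hij
  have he : (⨆ i, U i) ≤ π ⁻¹ᵁ ⨆ i, V i := iSup_le fun i => (e i).trans (π.preimage_mono (le_iSup V i))
  haveI hiso' := H17.Birat.isIso_resLE_iSup π U V e hd hI he
  haveI : IsFinite (π ∣_ ⨆ i, V i) := inferInstance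
  have hgen : ∀ γ ∈ genericPoints X', π γ ∈ (⨆ i, V i : X.Opens) → γ ∈ (⨆ i, U i : X'.Opens) :=
    fun γ hγ _ => Opens.mem_iSup.2 ⟨⟨γ, hγ⟩, hxU _⟩
  have heq := H17.Birat.eq_preimage_of_isIso_resLE π he hgen
  refine ⟨⨆ i, V i, dense_of_genericPoints_subset fun γ hγ => ?_, dense_of_genericPoints_subset fun γ hγ => ?_,
    H17.Birat.isIso_morphismRestrict_of_eq π he heq hiso'⟩
  · obtain ⟨x, hx, rfl⟩ := hbij.surjOn hγ
    exact Opens.mem_iSup.2 ⟨⟨x, hx⟩, hxV _⟩
  · exact he (Opens.mem_iSup.2 ⟨⟨γ, hγ⟩, hxU _⟩)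

end Groth.Agent.H06NormCurve
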