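import Mathlib
import Groth.Agent.H06NormCurve.Euler
import Groth.Agent.H10Coh.Serre

/-!
# Global functions of a proper reduced scheme over an algebraically closed field
-/

set_option autoImplicit false
set_option linter.style.haveILetI false

universe u

open CategoryTheory AlgebraicGeometry TopologicalSpace

namespace Groth.Agent.H06NormCurve

theorem finite_connectedComponents (X : Type u) [TopologicalSpace X] [NoetherianSpace X] :
    Finite (_root_.ConnectedComponents X) := by
  haveI : Finite (irreducibleComponents X) := (NoetherianSpace.finite_irreducibleComponents (α := X)).to_subtype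
  haveI : ∀ Z : irreducibleComponents X, Nonempty (Z : Set X) := fun Z => Z.2.1.1.to_subtype
  refine Finite.of_surjective (fun Z : irreducibleComponents X =>
    _root_.ConnectedComponents.mk (Classical.arbitrary (Z : Set X)).1) fun c => ?_
  obtain ⟨x, rfl⟩ := _root_.ConnectedComponents.surjective_coe c
  refine ⟨⟨irreducibleComponent x, irreducibleComponent_mem_irreducibleComponents x⟩, ?_⟩
  haveI : Nonempty (irreducibleComponent x : Set X) := ⟨⟨x, mem_irreducibleComponent⟩⟩
  rw [ConnectedComponents.coe_eq_coe']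
  exact isIrreducible_irreducibleComponent.isConnected.isPreconnected.subset_connectedComponent
    mem_irreducibleComponent (Subtype.coe_prop _)

theorem isClopen_connectedComponent {X : Type u} [TopologicalSpace X] [NoetherianSpace X] (x : X) :
    IsClopen (connectedComponent x) := by
  haveI := finite_connectedComponents X
  refine ⟨isClosed_connectedComponent, ?_⟩
  rw [← compl_compl (connectedComponent x), isOpen_compl_iff]
  have h : (connectedComponent x)ᶜ = ⋃ c ∈ ({_root_.ConnectedComponents.mk x}ᶜ : Set (_root_.ConnectedComponents X)),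
      _root_.ConnectedComponents.mk ⁻¹' {c} := by
    ext y
    simp [connectedComponent_eq_iff_mem]
  rw [h]
  refine Set.Finite.isClosed_biUnion (Set.toFinite _) fun c _ => ?_
  obtain ⟨y, rfl⟩ := _root_.ConnectedComponents.surjective_coe c
  rw [connectedComponents_preimage_singleton]
  exact isClosed_connectedComponent

theorem natCard_connectedComponents_eq_primeSpectrum (X : Scheme.{u}) [AlgebraicGeometry.IsNoetherian X] [IsReduced X]
    [IsArtinianRing Γ(X, ⊤)] :
    Nat.card (_root_.ConnectedComponents X) = Nat.card (PrimeSpectrum Γ(X, ⊤)) := by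
  let φ : X → PrimeSpectrum Γ(X, ⊤) := fun x => X.toSpecΓ x
  have hφc : Continuous φ := X.toSpecΓ.continuous
  have hpre : ∀ (e : Γ(X, ⊤)) (x : X), x ∈ X.basicOpen e ↔ φ x ∈ PrimeSpectrum.basicOpen e := fun e x => by
    rw [← Scheme.toSpecΓ_preimage_basicOpen X e]
    rfl
  let Φ : _root_.ConnectedComponents X → PrimeSpectrum Γ(X, ⊤) := hφc.connectedComponentsLift
  have hΦ : ∀ x : X, Φ (_root_.ConnectedComponents.mk x) = φ x := fun x => hφc.connectedComponentsLift_apply_coe x
  refine Nat.card_eq_of_bijective Φ ⟨fun a b hab => ?_, fun q => ?_⟩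
  · obtain ⟨x, rfl⟩ := _root_.ConnectedComponents.surjective_coe a
    obtain ⟨y, rfl⟩ := _root_.ConnectedComponents.surjective_coe b
    rw [hΦ, hΦ] at hab
    rw [ConnectedComponents.coe_eq_coe']
    by_contra hxy
    obtain ⟨hcl, hop⟩ := isClopen_connectedComponent y
    obtain ⟨e, h1, h2⟩ := H10Coh.exists_clopen_function (Z := X) (W₁ := ⟨connectedComponent y, hop⟩)
      (W₂ := ⟨(connectedComponent y)ᶜ, hcl.isOpen_compl⟩)
      (TopologicalSpace.Opens.ext (Set.inter_compl_self _)) (TopologicalSpace.Opens.ext (Set.union_compl_self _))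
    have hy : y ∈ X.basicOpen e := h1 mem_connectedComponent
    have hx : x ∈ X.basicOpen e := (hpre e x).2 (hab ▸ (hpre e y).1 hy)
    have : x ∈ (⊥ : X.Opens) := h2 ▸ ⟨hx, hxy⟩
    exact this
  · obtain ⟨O, hO, hqO, hOq⟩ : ∃ e : Γ(X, ⊤), True ∧ q ∈ PrimeSpectrum.basicOpen e ∧
        (PrimeSpectrum.basicOpen e : Set (PrimeSpectrum Γ(X, ⊤))) ⊆ {q} := by
      obtain ⟨_, ⟨e, rfl⟩, hqe, he⟩ := PrimeSpectrum.isTopologicalBasis_basic_opens.exists_subset_of_mem_open
        (Set.mem_singleton q) (isOpen_discrete _)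
      exact ⟨e, trivial, hqe, he⟩
    have hne : X.basicOpen O ≠ ⊥ := fun h => by
      rw [basicOpen_eq_bot_iff] at h
      rw [h, PrimeSpectrum.basicOpen_zero] at hqO
      exact hqO
    obtain ⟨x, hx⟩ := (Opens.ne_bot_iff_nonempty _).1 hne
    exact ⟨_root_.ConnectedComponents.mk x, (hΦ x).trans (hOq ((hpre O x).1 hx))⟩

theorem finrank_sections (k : Type u) [Field k] [IsAlgClosed k] (X : Scheme.{u}) [X.Over (Spec (CommRingCat.of k))]
    [IsProper (X ↘ Spec (CommRingCat.of k))] [IsReduced X] :
    Module.finrank k (Coh.HH X (Coh.structureModule X) 0) = Nat.card (_root_.ConnectedComponents X) := by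
  classical
  haveI : IsLocallyNoetherian X := LocallyOfFiniteType.isLocallyNoetherian (X ↘ Spec (CommRingCat.of k))
  haveI : CompactSpace X := QuasiCompact.compactSpace_of_compactSpace (X ↘ Spec (CommRingCat.of k))
  haveI : AlgebraicGeometry.IsNoetherian X := ⟨⟩
  letI : Algebra k Γ(X, ⊤) := (Coh.toGlobal (X ↘ Spec (CommRingCat.of k)) : k →+* Γ(X, ⊤)).toAlgebra
  let e : Coh.HH X (Coh.structureModule X) 0 ≃ₗ[k] Γ(X, ⊤) :=
    { H10Coh.HH0Equiv (Coh.structureModule X) with
      map_smul' := fun c x => (H10Coh.HH0Equiv_smul (Coh.structureModule X)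
        ((X ↘ Spec (CommRingCat.of k)).appTop ((Scheme.ΓSpecIso (CommRingCat.of k)).inv c)) x).trans rfl }
  haveI : Module.Finite k (Coh.HH X (Coh.structureModule X) 0) :=
    H10Coh.finite_HH_proper k X _ (H10Coh.isCoh_structureModule' X) 0
  haveI : Module.Finite k Γ(X, ⊤) := Module.Finite.equiv e
  haveI : IsArtinianRing Γ(X, ⊤) := IsArtinianRing.of_finite k _
  haveI : Algebra.IsIntegral k Γ(X, ⊤) := Algebra.IsIntegral.of_finite _ _
  have hb : ∀ m : MaximalSpectrum Γ(X, ⊤), Function.Bijective (algebraMap k (Γ(X, ⊤) ⧸ m.asIdeal)) := fun m =>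
    ⟨(algebraMap k _).injective, by
      haveI := m.isMaximal
      exact (IsAlgClosed.ringHom_bijective_of_isIntegral (algebraMap k (Γ(X, ⊤) ⧸ m.asIdeal))
        (algebraMap_isIntegral_iff.mpr inferInstance)).2⟩
  haveI : Fintype (MaximalSpectrum Γ(X, ⊤)) := Fintype.ofFinite _
  rw [e.finrank_eq, natCard_connectedComponents_eq_primeSpectrum,
    ((IsArtinianRing.equivPi Γ(X, ⊤)).restrictScalars k).toLinearEquiv.finrank_eq, Module.finrank_pi_fintype,
    Finset.sum_congr rfl fun m _ => ((LinearEquiv.ofBijective (Algebra.linearMap k _) (hb m)).finrank_eq.symm.trans (Module.finrank_self k)),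
    Finset.sum_const, Finset.card_univ, smul_eq_mul, mul_one, Nat.card_congr IsArtinianRing.primeSpectrumEquivMaximalSpectrum,
    Nat.card_eq_fintype_card]

end Groth.Agent.H06NormCurve
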