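import Mathlib
import Groth.Agent.H06NormCurve.Euler
import Groth.Agent.H06NormCurve.Dim
import Groth.Agent.H06NormCurve.Sections
import Groth.Agent.H06NormCurve.Node
import Groth.Agent.H28Int.Vanishing

/-!
# The genus formula for nodal curves over an algebraically closed field
-/

set_option autoImplicit false
set_option linter.style.haveILetI false

universe u

open CategoryTheory CategoryTheory.Limits AlgebraicGeometry TopologicalSpace

attribute [local instance] Curv2.resAlgebra

namespace Groth.Agent.H06NormCurve

theorem euler_eq_sub (k : Type u) [Field k] [IsAlgClosed k] (X : Scheme.{u}) [X.Over (Spec (CommRingCat.of k))]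
    [IsProper (X ↘ Spec (CommRingCat.of k))] [IsReduced X] (hdim : topologicalKrullDim X ≤ 1) :
    Curv2.euler k X (Coh.structureModule X) =
      (Nat.card (_root_.ConnectedComponents X) : ℤ) - Curv2.genus k X := by
  haveI : IsLocallyNoetherian X := LocallyOfFiniteType.isLocallyNoetherian (X ↘ Spec (CommRingCat.of k))
  haveI : CompactSpace X := QuasiCompact.compactSpace_of_compactSpace (X ↘ Spec (CommRingCat.of k))
  haveI : AlgebraicGeometry.IsNoetherian X := ⟨⟩
  haveI : X.IsSeparated := by
    rw [Scheme.isSeparated_iff, ← terminal.comp_from (X ↘ Spec (CommRingCat.of k))]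
    infer_instance
  have hv : ∀ p, 2 ≤ p → Subsingleton (Coh.HH X (Coh.structureModule X) p) := fun p hp =>
    @Equiv.subsingleton _ _ (H10Coh.HHEquiv _ p).toEquiv
      (H28Int.subsingleton_HnM_of_support ⟨Set.univ, isClosed_univ⟩ 1
        (by
          refine le_trans (le_of_eq ?_) hdim
          exact IsHomeomorph.topologicalKrullDim_eq _ (Homeomorph.Set.univ X).isHomeomorph)
        _ (H10Coh.isCoh_structureModule' X).1 (fun _ _ => trivial) p (by omega))
  rw [H25Euler.euler_eq_sum _ 2 hv, Finset.sum_range_succ, Finset.sum_range_one, finrank_sections k X, Curv2.genus]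
  ring

theorem finrank_residueField_eq_one {k : Type u} [Field k] [IsAlgClosed k] {X : Scheme.{u}}
    [X.Over (Spec (CommRingCat.of k))] [LocallyOfFiniteType (X ↘ Spec (CommRingCat.of k))] {x : X}
    (hx : IsClosed ({x} : Set X)) : Module.finrank k (X.residueField x) = 1 := by
  letI := Curv2.stalkAlgebra k X x
  have hb : Function.Bijective (algebraMap k (X.residueField x)) :=
    H06Wedge.residue_bijective_of_isClosed k X x hx
  exact ((LinearEquiv.ofBijective (Algebra.linearMap k (X.residueField x)) hb).finrank_eq.symm).trans (Module.finrank_self k)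

/-- The genus formula for the normalization of a curve with at worst nodal singularities. -/
theorem genus_formula (k : Type u) [Field k] [IsAlgClosed k]
    (C : Scheme.{u}) [C.Over (Spec (CommRingCat.of k))] [IsProper (C ↘ (Spec (CommRingCat.of k)))]
    (hdim : ∀ Z ∈ irreducibleComponents (C : Type u), topologicalKrullDim Z = 1) (hC : Curv2.AtWorstNodal k C)
    (C' : Scheme.{u}) (π : C' ⟶ C) [IsFinite π] (hC' : Pi1.IsNormalScheme C')
    (U : C.Opens) (hU : Dense (U : Set C)) (hU' : Dense ((π ⁻¹ᵁ U : C'.Opens) : Set C')) (hπU : IsIso (π ∣_ U)) :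
    letI : C'.Over (Spec (CommRingCat.of k)) := ⟨π ≫ (C ↘ (Spec (CommRingCat.of k)))⟩
    (Curv2.genus k C : ℤ) + Nat.card (_root_.ConnectedComponents C') =
      (Curv2.genus k C' : ℤ) + Nat.card {x : C // Curv2.IsNode k C x} + Nat.card (_root_.ConnectedComponents C) := by
  classical
  letI : C'.Over (Spec (CommRingCat.of k)) := ⟨π ≫ (C ↘ (Spec (CommRingCat.of k)))⟩
  haveI : IsReduced C := isReduced_of_atWorstNodal (k := k) hC
  haveI : IsReduced C' := isReduced_of_isNormalScheme hC'
  haveI : IsProper (C' ↘ Spec (CommRingCat.of k)) :=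
    inferInstanceAs (IsProper (π ≫ (C ↘ (Spec (CommRingCat.of k)))))
  haveI : IsLocallyNoetherian C := LocallyOfFiniteType.isLocallyNoetherian (C ↘ Spec (CommRingCat.of k))
  haveI : CompactSpace C := QuasiCompact.compactSpace_of_compactSpace (C ↘ Spec (CommRingCat.of k))
  haveI : AlgebraicGeometry.IsNoetherian C := ⟨⟩
  have hle : ∀ Z ∈ irreducibleComponents (C : Type u), topologicalKrullDim Z ≤ 1 := fun Z hZ => (hdim Z hZ).le
  have hd := topologicalKrullDim_le_one hle
  have h := euler_normalization π hC' hU hU' hπU k hle
  rw [euler_eq_sub k C' ((topologicalKrullDim_le_of_finite π).trans hd), euler_eq_sub k C hd] at h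
  let N : Set C := {x | Curv2.IsNode k C x}
  have hN : N.Finite := (finite_deltaInv_ne_zero π hC' hU hU' hπU hle).subset fun x hx => by
    show Curv2.deltaInv _ ≠ 0
    rw [deltaInv_of_isNode hdim hx]
    exact one_ne_zero
  haveI : Fintype N := hN.fintype
  rw [finsum_eq_sum_of_support_subset (s := hN.toFinset), Finset.sum_congr rfl (g := fun _ => (1 : ℤ))] at h
  · rw [Finset.sum_const, nsmul_one] at h
    have hc : Nat.card {x : C // Curv2.IsNode k C x} = hN.toFinset.card := by
      rw [← Set.ncard_eq_toFinset_card N hN]
      exact Nat.card_coe_set_eq N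
    rw [hc]
    omega
  · intro x hx
    have hn : Curv2.IsNode k C x := hN.mem_toFinset.1 hx
    rw [if_pos hn.1, finrank_residueField_eq_one (k := k) hn.1, deltaInv_of_isNode hdim hn]
    simp
  · intro x hx
    rw [Function.mem_support] at hx
    by_contra hxN
    refine hx ?_
    split
    · next hcl =>
      rcases hC x hcl with hs | hn
      · rw [deltaInv_of_smooth_nhd (k := k) hs]
        simp
      · exact absurd (hN.mem_toFinset.2 hn) hxN
    · rfl

end Groth.Agent.H06NormCurve
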