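import Mathlib
import Groth.Agent.H06NormCurve.Birational
import Groth.Agent.H06NormCurve.Sections
import Groth.Prelude.Def_Pi1

/-! # Connected components of a Noetherian normal scheme are its irreducible components -/

set_option autoImplicit false
set_option linter.style.haveILetI false

universe u

open CategoryTheory AlgebraicGeometry TopologicalSpace

namespace Groth.Agent.H06NormCurve

theorem eq_of_specializes_common {X : Scheme.{u}} (hX : Pi1.IsNormalScheme X) {γ γ' z : X}
    (hγ : γ ∈ genericPoints X) (hγ' : γ' ∈ genericPoints X) (h : γ ⤳ z) (h' : γ' ⤳ z) : γ = γ' := by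
  haveI := (hX z).1
  let f := X.fromSpecStalk z
  let o : Spec (X.presheaf.stalk z) := ⟨⊥, Ideal.isPrime_bot⟩
  have key : ∀ {c : X}, c ∈ genericPoints X → c ⤳ z → f o = c := by
    intro c hc hcz
    obtain ⟨p, hp⟩ : c ∈ Set.range f := (X.range_fromSpecStalk (x := z)).symm ▸ hcz
    have ho : o ⤳ p := (PrimeSpectrum.le_iff_specializes o p).1 bot_le
    exact (H17.mem_genericPoints_iff.1 hc) _ (hp ▸ ho.map f.continuous)
  exact (key hγ h).symm.trans (key hγ' h')

theorem natCard_connectedComponents_eq_irreducibleComponents (X : Scheme.{u}) [AlgebraicGeometry.IsNoetherian X]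
    (hX : Pi1.IsNormalScheme X) :
    Nat.card (_root_.ConnectedComponents X) = Nat.card (genericPoints X) := by
  have hfin : (genericPoints X).Finite := genericPoints.finite NoetherianSpace.finite_irreducibleComponents
  refine (Nat.card_eq_of_bijective (fun γ : genericPoints X => _root_.ConnectedComponents.mk (γ.1 : X))
    ⟨fun a b hab => ?_, fun c => ?_⟩).symm
  · have hcl : IsClopen (closure ({a.1} : Set X)) := by
      refine ⟨isClosed_closure, ?_⟩
      have h : (closure ({a.1} : Set X))ᶜ = ⋃ γ ∈ genericPoints X \ {a.1}, closure {γ} := by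
        ext z
        simp only [Set.mem_compl_iff, Set.mem_iUnion, exists_prop]
        constructor
        · intro hz
          obtain ⟨γ, hγ, hγz⟩ := H17.exists_genericPoint_specializes z
          exact ⟨γ, ⟨hγ, fun h => hz (h ▸ specializes_iff_mem_closure.1 hγz)⟩, specializes_iff_mem_closure.1 hγz⟩
        · rintro ⟨γ, ⟨hγ, hne⟩, hz⟩ hza
          exact hne (eq_of_specializes_common hX hγ a.2 (specializes_iff_mem_closure.2 hz)
            (specializes_iff_mem_closure.2 hza))
      rw [← compl_compl (closure ({a.1} : Set X)), h, isOpen_compl_iff]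
      exact Set.Finite.isClosed_biUnion (hfin.subset Set.sdiff_subset) fun _ _ => isClosed_closure
    have hb : b.1 ∈ closure ({a.1} : Set X) := hcl.connectedComponent_subset (subset_closure rfl)
      (ConnectedComponents.coe_eq_coe'.1 hab.symm)
    exact Subtype.ext (((H17.mem_genericPoints_iff.1 b.2) _ (specializes_iff_mem_closure.2 hb)))
  · obtain ⟨z, rfl⟩ := _root_.ConnectedComponents.surjective_coe c
    obtain ⟨γ, hγ, hγz⟩ := H17.exists_genericPoint_specializes z
    refine ⟨⟨γ, hγ⟩, ?_⟩
    show _root_.ConnectedComponents.mk γ = _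
    rw [ConnectedComponents.coe_eq_coe]
    exact (connectedComponent_eq (isClosed_connectedComponent.closure_subset_iff.2
      (Set.singleton_subset_iff.2 mem_connectedComponent) (specializes_iff_mem_closure.1 hγz))).symm.symm

end Groth.Agent.H06NormCurve
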